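import Cfsg.Agent.Lib.RuLat.Data
import Cfsg.Prelude.Def_Spor_Ru

/-!
# The rank-28 lattice: Hermitian form, a finite set of generators
-/

set_option autoImplicit false

namespace Cfsg.Agent.Lib.RuLat

open Cfsg.Spor

/-- The vector of a list. -/
def vecOf (l : List (ℤ × ℤ)) : RuVec := fun p =>
  ⟨(l.getD (p.1.val * 4 + p.2.val) (0, 0)).1, (l.getD (p.1.val * 4 + p.2.val) (0, 0)).2⟩

/-- The Hermitian form. -/
def herm (v w : RuVec) : GaussianInt := ∑ p, v p * star (w p)

theorem herm_add_left (u v w : RuVec) : herm (u + v) w = herm u w + herm v w := by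
  simp only [herm, Pi.add_apply, add_mul, Finset.sum_add_distrib]

theorem herm_neg_left (v w : RuVec) : herm (-v) w = -herm v w := by
  simp only [herm, Pi.neg_apply, neg_mul, Finset.sum_neg_distrib]

theorem herm_zero_left (w : RuVec) : herm 0 w = 0 := by
  simp [herm]

theorem herm_smul_left (c : GaussianInt) (v w : RuVec) : herm (c • v) w = c * herm v w := by
  simp only [herm, Pi.smul_apply, smul_eq_mul, Finset.mul_sum, mul_assoc]

theorem herm_add_right (v u w : RuVec) : herm v (u + w) = herm v u + herm v w := by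
  simp only [herm, Pi.add_apply, star_add, mul_add, Finset.sum_add_distrib]

theorem herm_neg_right (v w : RuVec) : herm v (-w) = -herm v w := by
  simp only [herm, Pi.neg_apply, star_neg, mul_neg, Finset.sum_neg_distrib]

theorem herm_zero_right (v : RuVec) : herm v 0 = 0 := by
  simp [herm]

theorem herm_smul_right (c : GaussianInt) (v w : RuVec) : herm v (c • w) = star c * herm v w := by
  simp only [herm, Pi.smul_apply, smul_eq_mul, Finset.mul_sum, star_mul']
  refine Finset.sum_congr rfl fun p _ => ?_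
  ring

/-- Divisibility by 4. -/
def D4 (z : GaussianInt) : Prop := (4 : ℤ) ∣ z.re ∧ (4 : ℤ) ∣ z.im

instance : DecidablePred D4 := fun z => inferInstanceAs (Decidable (_ ∧ _))

theorem D4_zero : D4 0 := ⟨by simp, by simp⟩

theorem D4_add {a b : GaussianInt} (ha : D4 a) (hb : D4 b) : D4 (a + b) :=
  ⟨by simpa using dvd_add ha.1 hb.1, by simpa using dvd_add ha.2 hb.2⟩

theorem D4_neg {a : GaussianInt} (ha : D4 a) : D4 (-a) :=
  ⟨by simpa using ha.1, by simpa using ha.2⟩

theorem D4_mul {c a : GaussianInt} (ha : D4 a) : D4 (c * a) := by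
  constructor
  · simp only [Zsqrtd.re_mul]
    exact dvd_add (Dvd.dvd.mul_left ha.1 _) (Dvd.dvd.mul_left ha.2 _)
  · simp only [Zsqrtd.im_mul]
    exact dvd_add (Dvd.dvd.mul_left ha.2 _) (Dvd.dvd.mul_left ha.1 _)

/-- The additive generators. -/
def gS : Set RuVec := {v | ∃ b ∈ B, v = vecOf b ∨ v = gI • vecOf b}

/-- The lattice as the span of a basis. -/
def A : AddSubgroup RuVec := AddSubgroup.closure gS

theorem vecOf_mem {b : List (ℤ × ℤ)} (hb : b ∈ B) : vecOf b ∈ A :=
  AddSubgroup.subset_closure ⟨b, hb, Or.inl rfl⟩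

theorem gI_gI (v : RuVec) : gI • (gI • v) = -v := by
  funext p
  simp only [Pi.smul_apply, smul_eq_mul, Pi.neg_apply]
  rw [← mul_assoc]
  have : gI * gI = -1 := by decide
  rw [this]
  ring

theorem gI_mem {v : RuVec} (hv : v ∈ A) : gI • v ∈ A := by
  induction hv using AddSubgroup.closure_induction with
  | mem x hx =>
    obtain ⟨b, hb, rfl | rfl⟩ := hx
    · exact AddSubgroup.subset_closure ⟨b, hb, Or.inr rfl⟩
    · rw [gI_gI]
      exact A.neg_mem (vecOf_mem hb)
  | zero => rw [smul_zero]; exact A.zero_mem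
  | add x y _ _ hx hy => rw [smul_add]; exact A.add_mem hx hy
  | neg x _ hx => rw [smul_neg]; exact A.neg_mem hx

theorem smul_mem' (c : GaussianInt) {v : RuVec} (hv : v ∈ A) : c • v ∈ A := by
  have h : c • v = c.re • v + c.im • (gI • v) := by
    funext p
    apply Zsqrtd.ext
    · simp [gI, Zsqrtd.re_mul]
    · simp [gI, Zsqrtd.im_mul]
  rw [h]
  exact A.add_mem (A.zsmul_mem hv _) (A.zsmul_mem (gI_mem hv) _)

/-- A combination of vectors. -/
def combAt : List (ℤ × ℤ) → List (List (ℤ × ℤ)) → RuVec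
  | c :: cs, b :: bs => fun p => (⟨c.1, c.2⟩ : GaussianInt) * vecOf b p + combAt cs bs p
  | _, _ => fun _ => 0

theorem combAt_mem (cs : List (ℤ × ℤ)) (bs : List (List (ℤ × ℤ))) (h : ∀ b ∈ bs, b ∈ B) : combAt cs bs ∈ A := by
  induction cs generalizing bs with
  | nil => exact A.zero_mem
  | cons c cs ih =>
    cases bs with
    | nil => exact A.zero_mem
    | cons b bs =>
      have h1 : combAt (c :: cs) (b :: bs) = (⟨c.1, c.2⟩ : GaussianInt) • vecOf b + combAt cs bs := rfl
      rw [h1]
      exact A.add_mem (smul_mem' _ (vecOf_mem (h b (by simp)))) (ih bs fun x hx => h x (by simp [hx]))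

/-- Check that a list of vectors lies in the span. -/
def chkV : List RuVec → List (List (ℤ × ℤ)) → Bool
  | [], _ => true
  | v :: vs, c :: cs => decide (∀ p, v p = combAt c B p) && chkV vs cs
  | _ :: _, [] => false

theorem mem_of_chkV {l : List RuVec} {cs : List (List (ℤ × ℤ))} (h : chkV l cs = true) : ∀ v ∈ l, v ∈ A := by
  induction l generalizing cs with
  | nil => simp
  | cons v vs ih =>
    cases cs with
    | nil => simp [chkV] at h
    | cons c cs =>
      simp only [chkV, Bool.and_eq_true, decide_eq_true_eq] at h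
      intro x hx
      rcases List.mem_cons.1 hx with rfl | hx
      · have : x = combAt c B := funext h.1
        rw [this]
        exact combAt_mem _ _ fun _ hb => hb
      · exact ih h.2 x hx

theorem table_mem : ∀ v ∈ ruTable, v ∈ A := mem_of_chkV (cs := cT) (by decide +kernel)

theorem map_mem {M : RuVec → RuVec} (hadd : ∀ u v, M (u + v) = M u + M v) (hneg : ∀ u, M (-u) = -M u)
    (h0 : M 0 = 0) (hi : ∀ u, M (gI • u) = gI • M u) (hB : ∀ b ∈ B, M (vecOf b) ∈ A) :
    ∀ v ∈ A, M v ∈ A := by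
  intro v hv
  induction hv using AddSubgroup.closure_induction with
  | mem x hx =>
    obtain ⟨b, hb, rfl | rfl⟩ := hx
    · exact hB b hb
    · rw [hi]
      exact gI_mem (hB b hb)
  | zero => rw [h0]; exact A.zero_mem
  | add x y _ _ hx hy => rw [hadd]; exact A.add_mem hx hy
  | neg x _ hx => rw [hneg]; exact A.neg_mem hx

theorem B_mem_map {M : RuVec → RuVec} {cs : List (List (ℤ × ℤ))} (h : chkV (B.map fun b => M (vecOf b)) cs = true) :
    ∀ b ∈ B, M (vecOf b) ∈ A := fun b hb => mem_of_chkV h _ (List.mem_map_of_mem hb)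

theorem rj_mem : ∀ v ∈ A, ruRj v ∈ A := by
  refine map_mem ?_ ?_ ?_ ?_ (B_mem_map (cs := cJ) (by decide +kernel))
  · intro u v; funext ⟨a, t⟩; fin_cases t <;> simp [ruRj, mul_add, add_comm]
  · intro u; funext ⟨a, t⟩; fin_cases t <;> simp [ruRj]
  · funext ⟨a, t⟩; fin_cases t <;> simp [ruRj]
  · intro u; funext ⟨a, t⟩; fin_cases t <;> simp [ruRj, mul_left_comm]

theorem rk_mem : ∀ v ∈ A, ruRk v ∈ A := by
  refine map_mem ?_ ?_ ?_ ?_ (B_mem_map (cs := cK) (by decide +kernel))
  · intro u v; funext ⟨a, t⟩; fin_cases t <;> simp [ruRk, mul_add, add_comm]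
  · intro u; funext ⟨a, t⟩; fin_cases t <;> simp [ruRk]
  · funext ⟨a, t⟩; fin_cases t <;> simp [ruRk]
  · intro u; funext ⟨a, t⟩; fin_cases t <;> simp [ruRk, mul_left_comm]

theorem sg_mem : ∀ v ∈ A, ruSign v ∈ A := by
  refine map_mem ?_ ?_ ?_ ?_ (B_mem_map (cs := cS) (by decide +kernel))
  · intro u v; funext p; by_cases h : p.1 = 0 ∨ p.1 = 3 ∨ p.1 = 5 ∨ p.1 = 6 <;> simp [ruSign, h] <;> ring
  · intro u; funext p; by_cases h : p.1 = 0 ∨ p.1 = 3 ∨ p.1 = 5 ∨ p.1 = 6 <;> simp [ruSign, h]
  · funext p; by_cases h : p.1 = 0 ∨ p.1 = 3 ∨ p.1 = 5 ∨ p.1 = 6 <;> simp [ruSign, h]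
  · intro u; funext p; by_cases h : p.1 = 0 ∨ p.1 = 3 ∨ p.1 = 5 ∨ p.1 = 6 <;> simp [ruSign, h]

theorem sh_mem : ∀ v ∈ A, ruShift v ∈ A := by
  refine map_mem (fun _ _ => rfl) (fun _ => rfl) rfl (fun _ => rfl) (B_mem_map (cs := cH) (by decide +kernel))

/-- The lattice lies in the span of the basis. -/
theorem lattice_le : ruLattice ≤ A := by
  refine sInf_le ⟨table_mem, fun v hv => ⟨gI_mem hv, rj_mem v hv, rk_mem v hv, sg_mem v hv, sh_mem v hv⟩⟩

/-- A valid test. -/
theorem test_all {τ : RuVec} (h : B.all (fun b => decide (D4 (herm (vecOf b) τ))) = true) :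
    ∀ v ∈ A, D4 (herm v τ) := by
  have h1 : ∀ b ∈ B, D4 (herm (vecOf b) τ) := fun b hb => of_decide_eq_true (List.all_eq_true.1 h b hb)
  intro v hv
  induction hv using AddSubgroup.closure_induction with
  | mem x hx =>
    obtain ⟨b, hb, rfl | rfl⟩ := hx
    · exact h1 b hb
    · rw [herm_smul_left]
      exact D4_mul (h1 b hb)
  | zero => rw [herm_zero_left]; exact D4_zero
  | add x y _ _ hx hy => rw [herm_add_left]; exact D4_add hx hy
  | neg x _ hx => rw [herm_neg_left]; exact D4_neg hx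

theorem gram : ∀ c ∈ B, ∀ v ∈ A, D4 (herm v (vecOf c)) := by
  have h : B.all (fun c => B.all fun b => decide (D4 (herm (vecOf b) (vecOf c)))) = true := by decide +kernel
  intro c hc
  exact test_all (List.all_eq_true.1 h c hc)

/-- The form is divisible by 4 on the lattice. -/
theorem herm_D4 {v w : RuVec} (hv : v ∈ A) (hw : w ∈ A) : D4 (herm v w) := by
  induction hw using AddSubgroup.closure_induction with
  | mem x hx =>
    obtain ⟨b, hb, rfl | rfl⟩ := hx
    · exact gram b hb v hv
    · rw [herm_smul_right]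
      exact D4_mul (gram b hb v hv)
  | zero => rw [herm_zero_right]; exact D4_zero
  | add x y _ _ hx hy => rw [herm_add_right]; exact D4_add hx hy
  | neg x _ hx => rw [herm_neg_right]; exact D4_neg hx

theorem norm_eq (z : GaussianInt) : z.norm = z.re * z.re + z.im * z.im := by
  rw [Zsqrtd.norm_def]; ring

theorem ruNorm_add (v w : RuVec) : ruNorm (v + w) = ruNorm v + ruNorm w + 2 * (herm v w).re := by
  have h : (herm v w).re = ∑ p, (v p * star (w p)).re := by
    simp only [herm]
    exact map_sum (AddMonoidHom.mk' (fun z : GaussianInt => z.re) (fun a b => Zsqrtd.re_add a b)) (fun p => v p * star (w p)) Finset.univ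
  rw [h, Finset.mul_sum, ruNorm, ruNorm, ruNorm, ← Finset.sum_add_distrib, ← Finset.sum_add_distrib]
  refine Finset.sum_congr rfl fun p _ => ?_
  simp only [Pi.add_apply, norm_eq, Zsqrtd.re_add, Zsqrtd.im_add, Zsqrtd.re_mul, Zsqrtd.re_star, Zsqrtd.im_star]
  ring

theorem ruNorm_neg (v : RuVec) : ruNorm (-v) = ruNorm v := by
  simp only [ruNorm, Pi.neg_apply, norm_eq, Zsqrtd.re_neg, Zsqrtd.im_neg, neg_mul_neg]

theorem ruNorm_smul (c : GaussianInt) (v : RuVec) : ruNorm (c • v) = c.norm * ruNorm v := by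
  simp only [ruNorm, Pi.smul_apply, smul_eq_mul, Zsqrtd.norm_mul, Finset.mul_sum]

/-- The norm on the lattice is divisible by 8. -/
theorem norm8 {v : RuVec} (hv : v ∈ A) : (8 : ℤ) ∣ ruNorm v := by
  have h0 : B.all (fun b => decide ((8 : ℤ) ∣ ruNorm (vecOf b))) = true := by decide +kernel
  have h1 : ∀ b ∈ B, (8 : ℤ) ∣ ruNorm (vecOf b) := fun b hb => of_decide_eq_true (List.all_eq_true.1 h0 b hb)
  induction hv using AddSubgroup.closure_induction with
  | mem x hx =>
    obtain ⟨b, hb, rfl | rfl⟩ := hx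
    · exact h1 b hb
    · rw [ruNorm_smul]
      have : gI.norm = 1 := by decide
      rw [this, one_mul]
      exact h1 b hb
  | zero => simp [ruNorm]
  | add x y hx' hy' hx hy =>
    rw [ruNorm_add]
    have h2 := (herm_D4 hx' hy').1
    omega
  | neg x _ hx => rw [ruNorm_neg]; exact hx

end Cfsg.Agent.Lib.RuLat
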