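import Mathlib

/-!
# Data for the rank-28 lattice over the Gaussian integers
-/

set_option autoImplicit false

namespace Cfsg.Agent.Lib.RuLat

/-- An echelon basis of the lattice. -/
def B : List (List (ℤ × ℤ)) := [[(-1, 0), (0, 0), (0, 0), (1, 0), (1, 0), (1, 0), (0, 0), (0, 0), (0, 0), (0, 0), (0, -1), (0, -1), (-1, 0), (0, 0), (-1, 0), (0, 0), (-1, 0), (0, 0), (0, 0), (0, 1), (0, 1), (0, 0), (-1, 0), (0, 0), (0, -1), (1, 0), (0, 1), (1, 0)],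
  [(0, 0), (-1, 0), (-1, 0), (0, 0), (0, 1), (0, 0), (-1, 0), (0, 0), (-1, 0), (1, 0), (1, 0), (-1, 0), (0, -1), (0, 0), (0, 0), (0, 1), (0, 0), (0, 0), (0, 1), (-1, 0), (0, 0), (0, 0), (0, -1), (0, 1), (-1, 0), (0, 0), (-1, 0), (0, 0)],
  [(0, 0), (0, 0), (-1, 0), (0, -1), (0, -1), (-1, 0), (0, 0), (0, 0), (0, 1), (0, 0), (0, -1), (0, 0), (0, 0), (1, 0), (1, 0), (0, 0), (0, 0), (-1, 0), (0, 0), (1, 0), (0, -1), (0, -1), (-1, 0), (1, 0), (-1, 0), (0, 0), (0, 0), (1, 0)],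
  [(0, 0), (0, 0), (0, 0), (-1, 1), (-1, 1), (0, 1), (0, -1), (0, 0), (0, -1), (0, 1), (0, 0), (0, 0), (0, -2), (0, 0), (0, -1), (0, -1), (1, -1), (-1, 0), (0, 0), (-1, 0), (-2, 0), (0, -1), (0, -1), (0, 0), (1, 0), (0, 2), (-1, 0), (-1, 1)],
  [(0, 0), (0, 0), (0, 0), (0, 0), (1, 0), (-1, 0), (0, 1), (1, 0), (0, 0), (0, 0), (0, 0), (0, 0), (-1, 0), (0, 1), (-1, 0), (-1, 0), (1, 0), (-1, 0), (-1, 0), (0, -1), (0, 1), (-1, 0), (1, 0), (1, 0), (0, 0), (0, 0), (0, 0), (0, 0)],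
  [(0, 0), (0, 0), (0, 0), (0, 0), (0, 0), (1, 1), (1, 1), (0, 0), (1, 0), (-1, 0), (1, 0), (2, -1), (0, 0), (0, 0), (-1, -1), (1, -1), (0, -1), (0, -1), (0, -1), (-1, 0), (-1, 0), (0, -1), (0, -1), (0, -1), (2, -1), (0, 1), (1, 0), (0, 1)],
  [(0, 0), (0, 0), (0, 0), (0, 0), (0, 0), (0, 0), (1, 1), (1, -1), (0, -2), (0, 0), (-1, 1), (-1, 1), (-1, 2), (1, 0), (-1, 2), (0, 1), (0, 0), (1, 1), (-1, 1), (-2, 0), (2, 1), (0, 1), (1, 0), (-2, -1), (0, 0), (1, -1), (0, 0), (-1, -1)],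
  [(0, 0), (0, 0), (0, 0), (0, 0), (0, 0), (0, 0), (0, 0), (-2, 0), (0, 2), (0, -2), (1, -1), (1, 1), (0, 0), (0, -2), (2, 0), (2, 0), (-1, 0), (1, 0), (3, 0), (0, 1), (0, -1), (1, 0), (-1, 0), (1, 0), (-1, 1), (0, 0), (1, 1), (0, 0)],
  [(0, 0), (0, 0), (0, 0), (0, 0), (0, 0), (0, 0), (0, 0), (0, 0), (0, 1), (0, -1), (-1, 0), (0, 1), (0, 0), (0, 0), (0, 0), (0, 0), (1, 0), (0, 1), (1, 0), (-1, 0), (0, 1), (0, -1), (0, 1), (-1, 0), (0, 1), (1, 0), (-1, 0), (1, 0)],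
  [(0, 0), (0, 0), (0, 0), (0, 0), (0, 0), (0, 0), (0, 0), (0, 0), (0, 0), (-1, 1), (0, 2), (1, -1), (0, 0), (0, 0), (0, 0), (-2, 0), (0, 1), (0, 1), (-1, 0), (0, -1), (0, 0), (0, 0), (1, -1), (-1, 1), (0, -1), (-1, 0), (0, -1), (0, -1)],
  [(0, 0), (0, 0), (0, 0), (0, 0), (0, 0), (0, 0), (0, 0), (0, 0), (0, 0), (0, 0), (0, -2), (0, -2), (-2, 0), (0, 0), (-2, 0), (0, 0), (0, 0), (0, 0), (0, 0), (0, 0), (0, 2), (0, 0), (-2, 0), (0, 0), (0, 0), (0, 0), (0, 0), (0, 0)],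
  [(0, 0), (0, 0), (0, 0), (0, 0), (0, 0), (0, 0), (0, 0), (0, 0), (0, 0), (0, 0), (0, 0), (2, -2), (0, -2), (-2, 0), (-2, -2), (2, -2), (0, 0), (0, -2), (0, -2), (0, 0), (-2, 0), (0, -2), (0, 0), (0, 0), (2, 0), (0, 2), (2, 0), (0, 2)],
  [(0, 0), (0, 0), (0, 0), (0, 0), (0, 0), (0, 0), (0, 0), (0, 0), (0, 0), (0, 0), (0, 0), (0, 0), (-1, -1), (-1, -1), (-1, -1), (1, -1), (0, 0), (0, 0), (0, -2), (2, 0), (-1, -1), (-1, -1), (1, 1), (-1, 1), (0, 0), (0, 0), (0, 0), (0, 0)],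
  [(0, 0), (0, 0), (0, 0), (0, 0), (0, 0), (0, 0), (0, 0), (0, 0), (0, 0), (0, 0), (0, 0), (0, 0), (0, 0), (-2, 0), (-2, 0), (0, 0), (0, 0), (2, 0), (0, 0), (-2, 0), (0, 0), (0, 0), (0, 0), (0, 0), (2, 0), (0, 0), (0, 0), (-2, 0)],
  [(0, 0), (0, 0), (0, 0), (0, 0), (0, 0), (0, 0), (0, 0), (0, 0), (0, 0), (0, 0), (0, 0), (0, 0), (0, 0), (0, 0), (0, 2), (0, 2), (1, -1), (1, 1), (1, 1), (-1, -1), (1, 1), (-1, 1), (-1, -1), (-1, -1), (0, 0), (0, 0), (0, 0), (0, 0)],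
  [(0, 0), (0, 0), (0, 0), (0, 0), (0, 0), (0, 0), (0, 0), (0, 0), (0, 0), (0, 0), (0, 0), (0, 0), (0, 0), (0, 0), (0, 0), (2, -2), (0, 0), (0, -2), (0, 0), (2, 0), (1, -1), (1, -3), (-1, 3), (1, 1), (1, -1), (1, 1), (1, 1), (1, 1)],
  [(0, 0), (0, 0), (0, 0), (0, 0), (0, 0), (0, 0), (0, 0), (0, 0), (0, 0), (0, 0), (0, 0), (0, 0), (0, 0), (0, 0), (0, 0), (0, 0), (1, 1), (-1, -1), (1, 1), (1, -1), (0, 0), (0, 0), (-2, 0), (0, -2), (-1, -1), (1, 1), (-1, -1), (-1, 1)],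
  [(0, 0), (0, 0), (0, 0), (0, 0), (0, 0), (0, 0), (0, 0), (0, 0), (0, 0), (0, 0), (0, 0), (0, 0), (0, 0), (0, 0), (0, 0), (0, 0), (0, 0), (-2, 2), (-2, 2), (0, -4), (0, 2), (0, 2), (0, -2), (2, 0), (-2, 4), (0, 2), (2, 0), (2, 0)],
  [(0, 0), (0, 0), (0, 0), (0, 0), (0, 0), (0, 0), (0, 0), (0, 0), (0, 0), (0, 0), (0, 0), (0, 0), (0, 0), (0, 0), (0, 0), (0, 0), (0, 0), (0, 0), (0, -2), (0, 2), (1, -1), (-1, -1), (1, 1), (1, 1), (1, 1), (1, -1), (1, 1), (-1, -1)],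
  [(0, 0), (0, 0), (0, 0), (0, 0), (0, 0), (0, 0), (0, 0), (0, 0), (0, 0), (0, 0), (0, 0), (0, 0), (0, 0), (0, 0), (0, 0), (0, 0), (0, 0), (0, 0), (0, 0), (0, 4), (0, 0), (0, 0), (0, 0), (0, 0), (0, 0), (0, 0), (0, 0), (0, 0)],
  [(0, 0), (0, 0), (0, 0), (0, 0), (0, 0), (0, 0), (0, 0), (0, 0), (0, 0), (0, 0), (0, 0), (0, 0), (0, 0), (0, 0), (0, 0), (0, 0), (0, 0), (0, 0), (0, 0), (0, 0), (0, 2), (0, -2), (0, 2), (-2, 0), (0, 2), (2, 0), (-2, 0), (2, 0)],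
  [(0, 0), (0, 0), (0, 0), (0, 0), (0, 0), (0, 0), (0, 0), (0, 0), (0, 0), (0, 0), (0, 0), (0, 0), (0, 0), (0, 0), (0, 0), (0, 0), (0, 0), (0, 0), (0, 0), (0, 0), (0, 0), (2, -2), (2, 2), (0, 4), (-4, 2), (-4, 2), (2, 0), (4, 2)],
  [(0, 0), (0, 0), (0, 0), (0, 0), (0, 0), (0, 0), (0, 0), (0, 0), (0, 0), (0, 0), (0, 0), (0, 0), (0, 0), (0, 0), (0, 0), (0, 0), (0, 0), (0, 0), (0, 0), (0, 0), (0, 0), (0, 0), (2, 2), (-2, 2), (-2, 0), (0, -2), (-2, 0), (2, 0)],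
  [(0, 0), (0, 0), (0, 0), (0, 0), (0, 0), (0, 0), (0, 0), (0, 0), (0, 0), (0, 0), (0, 0), (0, 0), (0, 0), (0, 0), (0, 0), (0, 0), (0, 0), (0, 0), (0, 0), (0, 0), (0, 0), (0, 0), (0, 0), (0, 4), (0, 0), (0, 0), (0, 0), (0, 0)],
  [(0, 0), (0, 0), (0, 0), (0, 0), (0, 0), (0, 0), (0, 0), (0, 0), (0, 0), (0, 0), (0, 0), (0, 0), (0, 0), (0, 0), (0, 0), (0, 0), (0, 0), (0, 0), (0, 0), (0, 0), (0, 0), (0, 0), (0, 0), (0, 0), (2, -2), (-2, -2), (-2, 6), (-2, -2)],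
  [(0, 0), (0, 0), (0, 0), (0, 0), (0, 0), (0, 0), (0, 0), (0, 0), (0, 0), (0, 0), (0, 0), (0, 0), (0, 0), (0, 0), (0, 0), (0, 0), (0, 0), (0, 0), (0, 0), (0, 0), (0, 0), (0, 0), (0, 0), (0, 0), (0, 0), (0, -4), (0, 0), (0, 0)],
  [(0, 0), (0, 0), (0, 0), (0, 0), (0, 0), (0, 0), (0, 0), (0, 0), (0, 0), (0, 0), (0, 0), (0, 0), (0, 0), (0, 0), (0, 0), (0, 0), (0, 0), (0, 0), (0, 0), (0, 0), (0, 0), (0, 0), (0, 0), (0, 0), (0, 0), (0, 0), (0, 4), (0, 0)],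
  [(0, 0), (0, 0), (0, 0), (0, 0), (0, 0), (0, 0), (0, 0), (0, 0), (0, 0), (0, 0), (0, 0), (0, 0), (0, 0), (0, 0), (0, 0), (0, 0), (0, 0), (0, 0), (0, 0), (0, 0), (0, 0), (0, 0), (0, 0), (0, 0), (0, 0), (0, 0), (0, 0), (0, 4)]]

/-- Coefficients of the generating vectors. -/
def cT : List (List (ℤ × ℤ)) := [[(-4, 0), (0, 0), (0, 0), (-2, -2), (0, 0), (2, 0), (-2, -2), (-2, 0), (-2, -4), (-4, 0), (1, -3), (0, 0), (6, 2), (-3, -3), (-1, 1), (-5, -1), (4, 4), (2, -5), (2, -4), (-3, 3), (5, 3), (2, 2), (0, -2), (3, 0), (4, -4), (-1, 5), (-3, 5), (-3, -3)],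
  [(0, 1), (-1, 0), (0, 0), (-1, 0), (-1, 1), (0, 1), (0, -1), (-1, 0), (0, -1), (-1, -1), (1, -1), (0, 0), (2, 2), (-1, -2), (0, 1), (-1, -2), (-1, 1), (1, -1), (0, -1), (-1, 1), (2, 0), (0, 3), (-3, -2), (1, -1), (-1, 0), (-2, 1), (0, 2), (-2, -1)],
  [(0, 1), (-1, 0), (2, 0), (1, 0), (1, 1), (1, -2), (-1, 2), (1, 2), (-3, 2), (0, 4), (-4, 1), (0, -2), (-5, -4), (3, 7), (3, -2), (1, 5), (7, 0), (-2, 0), (6, 0), (1, -1), (0, 3), (-1, -4), (10, -3), (-1, 2), (4, -4), (2, -1), (-6, -2), (5, -2)],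
  [(0, 1), (1, 0), (-2, 0), (-1, 2), (1, -1), (0, -1), (-2, 1), (0, 1), (-2, 1), (0, 2), (-1, -1), (0, 1), (2, -4), (-4, 1), (0, 2), (0, 3), (-1, -2), (-3, -1), (-4, 1), (2, 2), (0, -4), (1, -2), (-3, 4), (0, -1), (-4, -2), (5, 0), (6, 4), (-2, 3)],
  [(0, 1), (1, 0), (0, 0), (-1, 0), (-1, -1), (-1, 0), (1, 0), (0, -1), (1, 0), (1, -1), (1, 0), (0, 1), (1, 2), (1, -3), (-2, 0), (0, -2), (-1, -3), (0, 0), (-3, -3), (0, 0), (3, -3), (0, 3), (-6, -3), (1, -2), (-3, 0), (-2, 1), (1, 2), (-4, -1)],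
  [(-1, 0), (-1, 0), (0, 0), (-1, -1), (0, 1), (1, 1), (-1, -2), (-1, 0), (-2, -4), (-3, -1), (1, -3), (0, 0), (5, 3), (-2, -4), (-2, 2), (-4, -1), (2, 1), (2, -4), (0, -5), (-3, 3), (5, 1), (1, 2), (-2, -2), (3, 0), (1, -5), (0, 4), (-2, 8), (-5, -3)],
  [(-1, 0), (-1, 0), (0, 0), (-1, -1), (-1, 1), (0, 2), (1, -2), (-1, -1), (1, -2), (-1, -3), (3, -2), (0, 1), (5, 5), (-1, -7), (-3, 1), (-3, -4), (-3, 0), (3, -2), (-3, -3), (-2, 1), (3, -1), (1, 3), (-7, 0), (3, -1), (-1, -2), (0, 3), (1, 8), (-6, -2)],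
  [(-1, 0), (-1, 0), (0, 0), (-1, -1), (-1, 1), (1, 2), (-1, -2), (-2, 0), (-1, -3), (-3, -1), (1, -2), (0, -1), (3, 2), (-1, -1), (0, 0), (-3, -2), (2, 4), (3, -2), (3, 0), (-1, 1), (2, 4), (1, 1), (1, -1), (1, 2), (6, -2), (-1, 4), (-7, 2), (1, -3)],
  [(-1, 0), (-1, 0), (2, 0), (1, -1), (1, 1), (2, -2), (-1, 2), (1, 2), (-3, 2), (0, 4), (-4, 1), (0, -2), (-4, -4), (2, 7), (3, -2), (0, 5), (7, 0), (-3, 0), (4, -1), (1, 0), (0, 1), (1, -3), (7, -2), (-1, 1), (2, -2), (2, 0), (-2, -2), (3, 0)],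
  [(-1, 0), (-1, 0), (2, 0), (1, -1), (1, 1), (1, -2), (-1, 2), (1, 2), (-3, 1), (0, 4), (-3, 1), (0, -2), (-6, -3), (3, 7), (2, -2), (1, 5), (7, 0), (-2, 0), (6, 0), (0, -1), (-1, 5), (-2, -5), (12, -3), (0, 3), (4, -4), (2, -2), (-5, -3), (6, -2)],
  [(-1, 0), (-1, 0), (2, 0), (1, -1), (2, 1), (2, -2), (-2, 1), (0, 2), (-4, 0), (-2, 4), (-4, 0), (0, -2), (-3, -4), (1, 7), (3, -2), (-1, 5), (9, 3), (-1, -2), (8, 0), (0, 0), (1, 6), (-1, -4), (13, -3), (0, 3), (7, -5), (1, 0), (-8, -3), (6, -3)],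
  [(-1, 0), (-1, 0), (2, 0), (1, -1), (1, 0), (1, -2), (-1, 2), (1, 1), (-3, 2), (-1, 3), (-5, 1), (1, -2), (-4, -5), (0, 7), (4, 0), (1, 5), (5, 2), (-3, 0), (4, 2), (1, 0), (-2, 1), (0, -2), (9, -1), (-2, 1), (1, 1), (0, -2), (0, -6), (4, 2)],
  [(-1, 0), (1, 0), (-2, 0), (-1, 1), (1, -2), (0, -1), (-2, 1), (0, 1), (-2, 0), (0, 2), (0, 0), (-1, 1), (2, -2), (-1, 0), (-1, 0), (0, 1), (2, -2), (-2, -2), (-1, -3), (1, 2), (4, -1), (0, 0), (-3, -2), (2, 0), (-3, -5), (3, 1), (2, 7), (-3, -2)],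
  [(-1, 0), (1, 0), (-2, 0), (-1, 1), (0, -1), (0, 0), (-1, 0), (-1, 0), (1, 0), (0, 0), (2, 0), (-1, 1), (2, 0), (-1, -1), (0, -1), (0, -2), (-1, 1), (0, 0), (-1, 0), (1, 1), (1, 0), (1, 1), (-4, 0), (0, 0), (0, 1), (0, 2), (1, 0), (0, 0)],
  [(-1, 0), (1, 0), (-2, 0), (-1, 1), (1, -1), (1, 0), (-3, 0), (-1, 1), (-3, -2), (-3, 1), (-1, -3), (1, 1), (4, -5), (-6, 1), (1, 2), (-3, 1), (1, 3), (-1, -3), (-1, 2), (2, 2), (0, -1), (4, -1), (-2, 6), (0, 1), (2, -1), (4, 4), (1, 3), (-1, 2)],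
  [(-1, 0), (1, 0), (-2, 0), (-1, 1), (1, -1), (1, -1), (-3, 0), (-1, 1), (-3, -1), (-2, 2), (-1, -2), (0, 1), (4, -4), (-5, 1), (1, 2), (-2, 2), (2, 1), (-2, -3), (-1, 0), (1, 3), (2, -1), (2, 0), (-1, 1), (0, -1), (0, -2), (2, 3), (1, 2), (-1, 1)],
  [(-1, 0), (1, 0), (0, 0), (-1, -1), (-1, -1), (0, 1), (1, -2), (-1, -2), (1, -2), (-2, -2), (1, -1), (1, 0), (4, 3), (-2, -4), (-1, 1), (-3, -3), (-1, 2), (2, -2), (-1, -2), (-2, 0), (2, 0), (2, 3), (-4, 1), (2, -2), (1, 1), (-2, 2), (1, 2), (-4, 0)],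
  [(-1, 0), (1, 0), (0, 0), (-1, -1), (-1, -1), (-1, 1), (1, -2), (-1, -2), (2, -2), (-1, -3), (2, -1), (1, 1), (4, 2), (-3, -4), (-1, 2), (-1, -3), (-4, 2), (2, 0), (-3, 2), (-1, 1), (-1, -1), (1, 3), (-4, 2), (-1, -2), (1, 5), (-4, 1), (0, -4), (-1, 2)],
  [(-1, 0), (1, 0), (0, 0), (-1, -1), (-1, -2), (-1, 0), (1, 0), (0, -2), (1, 1), (1, -1), (0, 1), (0, 0), (1, 2), (0, -2), (-1, 1), (1, 0), (-2, -3), (-1, 1), (-5, -1), (0, 1), (0, -3), (0, 1), (-3, -1), (0, -3), (-3, 3), (-2, -1), (4, -3), (-2, 3)],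
  [(-1, 0), (1, 0), (0, 0), (-1, -1), (0, -1), (0, 0), (0, -1), (-1, -1), (1, -2), (-1, -1), (1, 0), (0, 0), (1, 2), (0, -1), (0, -1), (0, -2), (1, 2), (2, -1), (2, -1), (-1, 0), (1, 4), (-1, 1), (2, -3), (1, 1), (4, 0), (-3, 1), (-5, -2), (2, -2)]]

/-- Coefficients of the images under the first quaternion unit. -/
def cJ : List (List (ℤ × ℤ)) := [[(0, 0), (0, 1), (-1, -1), (-1, 0), (1, 1), (1, 1), (-1, -2), (-1, 0), (0, -2), (-2, -1), (2, -2), (-1, 1), (5, 2), (-2, -4), (-1, 1), (-2, -2), (-1, 2), (2, -2), (-1, -1), (-1, 2), (2, 0), (1, 2), (-4, 0), (1, 0), (0, -1), (0, 3), (0, 4), (-3, -1)],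
  [(0, 1), (0, 0), (0, 0), (-1, 0), (-1, 0), (-1, 1), (1, -1), (-1, -1), (3, -1), (0, -2), (2, 0), (0, 0), (1, 3), (0, -2), (0, 0), (1, -3), (-3, 2), (2, 1), (0, 1), (-1, 0), (-1, 2), (-1, 2), (-1, -1), (0, 0), (1, 3), (-3, 0), (-1, -3), (1, 0)],
  [(0, 0), (0, 0), (0, 1), (0, 0), (-1, -1), (0, 0), (0, 1), (0, 0), (0, 1), (1, 1), (0, 1), (-1, 0), (-1, 0), (2, 1), (0, -1), (1, 0), (1, -2), (-1, 1), (-1, -1), (1, 0), (1, -1), (0, 0), (-1, -2), (0, -1), (-1, 0), (0, 0), (0, -1), (0, 0)],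
  [(0, 0), (0, 0), (1, -1), (0, -1), (-1, 0), (-2, 0), (3, 0), (1, -2), (3, 3), (3, -2), (1, 3), (0, 0), (-3, 3), (2, -2), (-1, 1), (4, 0), (-7, -5), (-1, 4), (-6, 1), (0, -1), (-4, -5), (-1, 0), (-4, 1), (-2, -2), (-6, 4), (-1, -3), (6, -1), (-2, 4)],
  [(0, 0), (0, 0), (0, 0), (0, 0), (0, -1), (0, 0), (0, 0), (0, 0), (0, 0), (0, 0), (0, 0), (0, 0), (1, 0), (0, 0), (0, 0), (0, 0), (0, 0), (0, 0), (0, 0), (0, 0), (0, 0), (0, 0), (0, 0), (0, 0), (0, 0), (0, 0), (0, 0), (0, 0)],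
  [(0, 0), (0, 0), (0, 0), (0, 0), (-1, 1), (0, 1), (1, -1), (0, 0), (0, -2), (0, -2), (3, -1), (-1, 1), (2, 4), (2, -5), (-4, -1), (-2, -3), (1, -3), (2, -2), (0, -7), (-2, 0), (7, -1), (0, 3), (-7, -5), (3, 0), (-1, -7), (0, 4), (-4, 12), (-6, -7)],
  [(0, 0), (0, 0), (0, 0), (0, 0), (0, 0), (0, 0), (0, -1), (0, 0), (0, -2), (-2, -2), (-1, -3), (3, 1), (3, -3), (-5, -1), (0, 2), (-3, -1), (-1, 4), (1, -2), (0, 2), (0, 0), (-1, -1), (2, 2), (-2, 5), (0, 0), (0, 3), (0, 0), (3, 0), (-2, 2)],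
  [(0, 0), (0, 0), (0, 0), (0, 0), (0, 0), (0, 0), (-1, 1), (0, 1), (-2, -2), (0, 2), (0, 1), (-2, -1), (-3, 2), (5, 2), (0, -3), (1, -1), (7, 0), (1, -1), (7, -5), (-1, 1), (7, 7), (-3, 1), (4, -11), (3, 3), (5, -7), (-2, 2), (-12, 3), (3, -9)],
  [(0, 0), (0, 0), (0, 0), (0, 0), (0, 0), (0, 0), (0, 0), (0, 0), (0, -1), (0, 0), (0, 0), (0, 0), (0, 0), (0, 0), (0, 0), (0, 0), (0, 1), (1, 0), (1, 1), (0, 0), (-1, 1), (0, -1), (1, 2), (0, 1), (1, 0), (1, -1), (0, 0), (1, 0)],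
  [(0, 0), (0, 0), (0, 0), (0, 0), (0, 0), (0, 0), (0, 0), (0, 0), (-1, 1), (0, 1), (0, 1), (0, -1), (-2, 0), (1, 2), (1, 0), (1, 1), (0, 0), (0, 1), (2, 2), (0, -1), (-2, 2), (-1, -2), (4, 1), (0, 1), (2, 0), (0, -1), (-2, -2), (3, 0)],
  [(0, 0), (0, 0), (0, 0), (0, 0), (0, 0), (0, 0), (0, 0), (0, 0), (0, 0), (0, 0), (1, 0), (-1, 1), (1, 1), (1, -1), (0, 0), (1, -1), (0, 0), (1, 0), (1, -1), (0, 1), (2, 1), (-2, 1), (0, -3), (1, 0), (0, -2), (-1, 0), (-3, 2), (0, -3)],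
  [(0, 0), (0, 0), (0, 0), (0, 0), (0, 0), (0, 0), (0, 0), (0, 0), (0, 0), (0, 0), (1, 1), (-1, 0), (0, 2), (1, -1), (-1, -1), (0, 0), (2, -2), (0, -1), (1, -5), (-1, 1), (4, -1), (0, 1), (-2, -4), (1, 0), (-1, -5), (0, 2), (-2, 7), (-3, -3)],
  [(0, 0), (0, 0), (0, 0), (0, 0), (0, 0), (0, 0), (0, 0), (0, 0), (0, 0), (0, 0), (0, 0), (0, 0), (0, 1), (0, 0), (0, 0), (0, 0), (0, 0), (0, 0), (0, 0), (0, 0), (0, 0), (0, 0), (0, 0), (0, 0), (0, 0), (0, 0), (0, 0), (0, 0)],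
  [(0, 0), (0, 0), (0, 0), (0, 0), (0, 0), (0, 0), (0, 0), (0, 0), (0, 0), (0, 0), (0, 0), (0, 0), (1, 1), (0, -1), (0, 0), (0, 0), (1, 1), (1, -1), (2, -2), (-1, 1), (2, 1), (-1, 1), (1, -2), (1, 0), (0, -2), (-1, 0), (-1, 3), (-1, -2)],
  [(0, 0), (0, 0), (0, 0), (0, 0), (0, 0), (0, 0), (0, 0), (0, 0), (0, 0), (0, 0), (0, 0), (0, 0), (0, 0), (0, 0), (1, 0), (1, -1), (0, 2), (1, -1), (4, 0), (-1, 0), (1, 4), (-3, 1), (3, -3), (2, 1), (0, -2), (-1, -2), (-1, 2), (1, -3)],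
  [(0, 0), (0, 0), (0, 0), (0, 0), (0, 0), (0, 0), (0, 0), (0, 0), (0, 0), (0, 0), (0, 0), (0, 0), (0, 0), (0, 0), (-1, -1), (-1, 0), (2, -2), (-1, -1), (-1, -3), (0, 0), (3, -3), (1, 2), (-3, -3), (-1, -2), (-2, -2), (-1, 2), (0, 3), (-3, -1)],
  [(0, 0), (0, 0), (0, 0), (0, 0), (0, 0), (0, 0), (0, 0), (0, 0), (0, 0), (0, 0), (0, 0), (0, 0), (0, 0), (0, 0), (0, 0), (0, 0), (0, -1), (0, 0), (0, 0), (0, 0), (0, 0), (0, 0), (-1, -1), (0, 0), (0, -1), (1, 1), (-1, 2), (0, -1)],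
  [(0, 0), (0, 0), (0, 0), (0, 0), (0, 0), (0, 0), (0, 0), (0, 0), (0, 0), (0, 0), (0, 0), (0, 0), (0, 0), (0, 0), (0, 0), (0, 0), (-2, 0), (0, 1), (0, 2), (-1, -1), (-1, 1), (-1, -1), (1, 1), (0, 0), (0, 0), (1, -2), (0, -1), (1, 1)],
  [(0, 0), (0, 0), (0, 0), (0, 0), (0, 0), (0, 0), (0, 0), (0, 0), (0, 0), (0, 0), (0, 0), (0, 0), (0, 0), (0, 0), (0, 0), (0, 0), (0, 0), (0, 0), (-1, 0), (1, 0), (-1, -1), (1, 0), (0, 1), (-1, 0), (0, 2), (-1, 0), (1, -2), (0, 2)],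
  [(0, 0), (0, 0), (0, 0), (0, 0), (0, 0), (0, 0), (0, 0), (0, 0), (0, 0), (0, 0), (0, 0), (0, 0), (0, 0), (0, 0), (0, 0), (0, 0), (0, 0), (0, 0), (-2, 0), (1, 0), (-1, -1), (1, -1), (0, 2), (0, 0), (0, 1), (1, 0), (2, -1), (0, 2)],
  [(0, 0), (0, 0), (0, 0), (0, 0), (0, 0), (0, 0), (0, 0), (0, 0), (0, 0), (0, 0), (0, 0), (0, 0), (0, 0), (0, 0), (0, 0), (0, 0), (0, 0), (0, 0), (0, 0), (0, 0), (0, -1), (0, 0), (-1, 1), (0, 0), (-2, 0), (1, -2), (3, 1), (-1, 0)],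
  [(0, 0), (0, 0), (0, 0), (0, 0), (0, 0), (0, 0), (0, 0), (0, 0), (0, 0), (0, 0), (0, 0), (0, 0), (0, 0), (0, 0), (0, 0), (0, 0), (0, 0), (0, 0), (0, 0), (0, 0), (1, -1), (0, 1), (0, 0), (-1, -1), (0, -1), (0, 0), (-1, 0), (-1, 0)],
  [(0, 0), (0, 0), (0, 0), (0, 0), (0, 0), (0, 0), (0, 0), (0, 0), (0, 0), (0, 0), (0, 0), (0, 0), (0, 0), (0, 0), (0, 0), (0, 0), (0, 0), (0, 0), (0, 0), (0, 0), (0, 0), (0, 0), (0, 1), (0, 0), (0, 1), (0, -1), (1, -2), (0, 0)],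
  [(0, 0), (0, 0), (0, 0), (0, 0), (0, 0), (0, 0), (0, 0), (0, 0), (0, 0), (0, 0), (0, 0), (0, 0), (0, 0), (0, 0), (0, 0), (0, 0), (0, 0), (0, 0), (0, 0), (0, 0), (0, 0), (0, 0), (1, 1), (0, -1), (0, 1), (-1, -1), (1, -2), (0, 1)],
  [(0, 0), (0, 0), (0, 0), (0, 0), (0, 0), (0, 0), (0, 0), (0, 0), (0, 0), (0, 0), (0, 0), (0, 0), (0, 0), (0, 0), (0, 0), (0, 0), (0, 0), (0, 0), (0, 0), (0, 0), (0, 0), (0, 0), (0, 0), (0, 0), (1, 0), (-1, 1), (-2, 0), (-1, -1)],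
  [(0, 0), (0, 0), (0, 0), (0, 0), (0, 0), (0, 0), (0, 0), (0, 0), (0, 0), (0, 0), (0, 0), (0, 0), (0, 0), (0, 0), (0, 0), (0, 0), (0, 0), (0, 0), (0, 0), (0, 0), (0, 0), (0, 0), (0, 0), (0, 0), (1, 1), (-1, 0), (-1, -2), (1, 0)],
  [(0, 0), (0, 0), (0, 0), (0, 0), (0, 0), (0, 0), (0, 0), (0, 0), (0, 0), (0, 0), (0, 0), (0, 0), (0, 0), (0, 0), (0, 0), (0, 0), (0, 0), (0, 0), (0, 0), (0, 0), (0, 0), (0, 0), (0, 0), (0, 0), (0, 0), (0, 0), (0, 0), (-1, 0)],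
  [(0, 0), (0, 0), (0, 0), (0, 0), (0, 0), (0, 0), (0, 0), (0, 0), (0, 0), (0, 0), (0, 0), (0, 0), (0, 0), (0, 0), (0, 0), (0, 0), (0, 0), (0, 0), (0, 0), (0, 0), (0, 0), (0, 0), (0, 0), (0, 0), (0, 0), (0, 0), (1, 0), (0, 0)]]

/-- Coefficients of the images under the second quaternion unit. -/
def cK : List (List (ℤ × ℤ)) := [[(0, 0), (1, 0), (-1, 1), (0, 1), (0, -1), (0, 0), (0, 1), (0, 0), (1, 0), (1, -1), (1, -1), (0, 2), (2, 0), (-1, -2), (-1, 0), (0, -2), (-2, 0), (0, 0), (-2, 0), (1, 0), (1, -2), (0, 2), (-5, 1), (1, -1), (-4, 1), (1, -1), (5, 2), (-3, 0)],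
  [(0, 1), (0, 0), (0, 0), (0, 1), (1, -1), (0, -2), (-2, 3), (1, 2), (-3, 3), (1, 4), (-3, 1), (0, 0), (-3, -6), (0, 6), (3, -1), (2, 4), (4, -1), (-4, 0), (2, 0), (3, 1), (1, -1), (0, -2), (3, -2), (-1, 1), (-1, -3), (3, 0), (-1, 1), (2, 0)],
  [(0, 1), (0, -1), (0, 1), (0, 1), (-1, 0), (0, 0), (0, 0), (0, 0), (-1, -1), (-1, -1), (-1, -3), (2, 1), (3, -3), (-5, -1), (-1, 3), (-3, 1), (-2, 0), (-1, -1), (-5, 2), (1, 1), (-2, -5), (3, -1), (-3, 8), (-1, -2), (-2, 2), (3, 0), (6, 0), (-3, 5)],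
  [(0, 0), (-1, 1), (1, -1), (0, -1), (2, 1), (1, -1), (-2, 0), (0, 1), (-3, 0), (-2, 3), (-3, 1), (-1, -2), (-2, -2), (1, 4), (2, -1), (0, 4), (6, 1), (-1, -2), (5, -1), (-1, 1), (1, 4), (-1, -3), (8, -4), (0, 3), (4, -6), (2, 1), (-6, 2), (4, -3)],
  [(0, 0), (0, 0), (0, 0), (0, 0), (-1, 0), (-1, 1), (2, 0), (1, -1), (1, 1), (2, -2), (2, 0), (0, 1), (1, 4), (1, -5), (-3, 1), (0, -2), (-5, -5), (0, 1), (-7, -3), (0, 0), (2, -6), (0, 2), (-9, 1), (2, -3), (-7, 0), (1, -1), (7, 6), (-7, 1)],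
  [(0, 0), (0, 0), (0, 0), (0, 0), (-1, 1), (0, 1), (1, -1), (-1, -1), (4, 0), (2, -2), (3, 1), (-2, 0), (0, 5), (4, -3), (-1, -2), (2, -3), (-3, 0), (3, 2), (0, 1), (-1, -2), (-1, 2), (-3, 1), (0, -3), (-1, 0), (0, 1), (-2, -1), (-1, -2), (2, -2)],
  [(0, 0), (0, 0), (0, 0), (0, 0), (-1, 1), (0, 2), (1, -2), (-1, -1), (1, -1), (-2, -2), (1, 0), (1, -1), (2, 0), (-3, 0), (1, 2), (-1, -1), (-5, 4), (1, 1), (-2, 6), (0, -1), (-5, -1), (2, 1), (0, 7), (-3, -2), (1, 7), (-3, 0), (3, -7), (1, 5)],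
  [(0, 0), (0, 0), (0, 0), (0, 0), (0, 0), (1, -1), (-1, 1), (0, 1), (0, 0), (0, 2), (-1, 0), (0, -1), (-3, -2), (2, 4), (1, -3), (0, 1), (7, 2), (0, -1), (7, -2), (0, -1), (1, 5), (-1, -2), (7, -4), (1, 3), (4, -4), (1, 0), (-5, 1), (4, -4)],
  [(0, 0), (0, 0), (0, 0), (0, 0), (0, 0), (0, 0), (0, 0), (0, 0), (-1, 0), (-1, 1), (-1, 0), (1, -1), (-1, -1), (-1, 2), (1, 0), (-1, 1), (2, 1), (-1, -1), (1, -1), (0, 0), (0, 1), (1, -1), (2, 1), (1, 0), (1, -1), (1, 0), (1, 1), (0, 0)],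
  [(0, 0), (0, 0), (0, 0), (0, 0), (0, 0), (0, 0), (0, 0), (0, 0), (0, 2), (2, 1), (1, 1), (-2, 0), (0, 2), (2, -1), (-1, 0), (2, 1), (-2, -4), (-1, 1), (-3, -2), (0, 1), (2, -2), (-2, 0), (-2, -3), (0, -2), (-4, -2), (0, -1), (2, 2), (-2, 0)],
  [(0, 0), (0, 0), (0, 0), (0, 0), (0, 0), (0, 0), (0, 0), (0, 0), (0, -2), (0, -2), (1, -2), (0, 2), (4, 2), (-1, -5), (-3, 1), (-2, -2), (-1, -1), (1, -2), (-3, -3), (-1, 1), (3, -3), (1, 3), (-7, 0), (2, -1), (-4, -1), (1, 1), (4, 6), (-6, -1)],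
  [(0, 0), (0, 0), (0, 0), (0, 0), (0, 0), (0, 0), (0, 0), (0, 0), (0, 0), (2, 0), (2, 0), (-2, 1), (1, 5), (5, -5), (-3, -3), (-1, -3), (3, -5), (1, -2), (0, -10), (-2, 0), (10, -1), (-1, 4), (-8, -10), (4, -1), (-4, -8), (1, 3), (-1, 13), (-7, -8)],
  [(0, 0), (0, 0), (0, 0), (0, 0), (0, 0), (0, 0), (0, 0), (0, 0), (0, 0), (0, 0), (0, 0), (0, 0), (0, 1), (1, -1), (-1, -1), (-1, -1), (2, -2), (0, -1), (0, -4), (0, 0), (4, -1), (1, 2), (-4, -4), (1, 0), (0, -3), (0, 3), (-3, 5), (-3, -3)],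
  [(0, 0), (0, 0), (0, 0), (0, 0), (0, 0), (0, 0), (0, 0), (0, 0), (0, 0), (0, 0), (0, 0), (0, 0), (1, 1), (0, -1), (0, 0), (-1, -1), (0, 0), (-1, -1), (-1, -3), (-1, 0), (3, -2), (1, 3), (-4, -2), (1, -2), (-4, 0), (-1, 1), (5, 3), (-4, 0)],
  [(0, 0), (0, 0), (0, 0), (0, 0), (0, 0), (0, 0), (0, 0), (0, 0), (0, 0), (0, 0), (0, 0), (0, 0), (1, -1), (-1, 1), (1, 0), (0, 0), (0, 2), (0, 0), (0, 2), (1, 0), (-2, 0), (1, 0), (1, 2), (-1, 0), (1, 3), (-1, 0), (1, -4), (2, 2)],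
  [(0, 0), (0, 0), (0, 0), (0, 0), (0, 0), (0, 0), (0, 0), (0, 0), (0, 0), (0, 0), (0, 0), (0, 0), (0, 0), (1, -1), (-1, -1), (-1, 0), (1, -1), (1, 0), (0, 0), (0, -1), (-1, 1), (1, -3), (1, 3), (0, 1), (3, -1), (3, 0), (-1, 0), (1, 0)],
  [(0, 0), (0, 0), (0, 0), (0, 0), (0, 0), (0, 0), (0, 0), (0, 0), (0, 0), (0, 0), (0, 0), (0, 0), (0, 0), (0, 0), (0, 0), (0, 0), (0, 1), (1, 0), (1, 1), (0, 0), (-2, 1), (0, -1), (2, 2), (0, 1), (2, 1), (0, 0), (-1, -2), (2, 0)],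
  [(0, 0), (0, 0), (0, 0), (0, 0), (0, 0), (0, 0), (0, 0), (0, 0), (0, 0), (0, 0), (0, 0), (0, 0), (0, 0), (0, 0), (0, 0), (0, 0), (-2, 0), (1, 0), (0, 2), (1, -1), (-2, 0), (0, -2), (0, 4), (1, 1), (0, -1), (3, -2), (1, 4), (1, 1)],
  [(0, 0), (0, 0), (0, 0), (0, 0), (0, 0), (0, 0), (0, 0), (0, 0), (0, 0), (0, 0), (0, 0), (0, 0), (0, 0), (0, 0), (0, 0), (0, 0), (1, -1), (-1, 0), (-1, -2), (0, 1), (2, -1), (0, 1), (-1, -2), (0, -1), (-2, 0), (-1, 0), (2, 0), (-2, 0)],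
  [(0, 0), (0, 0), (0, 0), (0, 0), (0, 0), (0, 0), (0, 0), (0, 0), (0, 0), (0, 0), (0, 0), (0, 0), (0, 0), (0, 0), (0, 0), (0, 0), (0, 0), (-1, 1), (-2, 0), (0, 1), (0, -2), (1, 1), (-2, 0), (-1, -1), (-2, 3), (-1, 0), (3, -3), (-1, 2)],
  [(0, 0), (0, 0), (0, 0), (0, 0), (0, 0), (0, 0), (0, 0), (0, 0), (0, 0), (0, 0), (0, 0), (0, 0), (0, 0), (0, 0), (0, 0), (0, 0), (0, 0), (0, 0), (0, 0), (0, 0), (0, 1), (0, 0), (0, 0), (0, 0), (1, 0), (0, 0), (-1, 0), (0, -1)],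
  [(0, 0), (0, 0), (0, 0), (0, 0), (0, 0), (0, 0), (0, 0), (0, 0), (0, 0), (0, 0), (0, 0), (0, 0), (0, 0), (0, 0), (0, 0), (0, 0), (0, 0), (0, 0), (0, 0), (0, 0), (1, 1), (0, -1), (0, 0), (0, 0), (1, -1), (2, -1), (-2, 1), (1, 1)],
  [(0, 0), (0, 0), (0, 0), (0, 0), (0, 0), (0, 0), (0, 0), (0, 0), (0, 0), (0, 0), (0, 0), (0, 0), (0, 0), (0, 0), (0, 0), (0, 0), (0, 0), (0, 0), (0, 0), (0, 0), (1, 1), (0, 0), (0, -1), (0, 0), (2, -1), (0, 1), (-4, 0), (0, -1)],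
  [(0, 0), (0, 0), (0, 0), (0, 0), (0, 0), (0, 0), (0, 0), (0, 0), (0, 0), (0, 0), (0, 0), (0, 0), (0, 0), (0, 0), (0, 0), (0, 0), (0, 0), (0, 0), (0, 0), (0, 0), (0, 0), (1, -1), (-1, 1), (0, 1), (1, -1), (2, 1), (-1, 2), (0, 0)],
  [(0, 0), (0, 0), (0, 0), (0, 0), (0, 0), (0, 0), (0, 0), (0, 0), (0, 0), (0, 0), (0, 0), (0, 0), (0, 0), (0, 0), (0, 0), (0, 0), (0, 0), (0, 0), (0, 0), (0, 0), (0, 0), (0, 0), (0, 0), (0, 0), (-1, -2), (1, 1), (1, 3), (-2, 0)],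
  [(0, 0), (0, 0), (0, 0), (0, 0), (0, 0), (0, 0), (0, 0), (0, 0), (0, 0), (0, 0), (0, 0), (0, 0), (0, 0), (0, 0), (0, 0), (0, 0), (0, 0), (0, 0), (0, 0), (0, 0), (0, 0), (0, 0), (0, 0), (0, 0), (0, 0), (0, 0), (0, 0), (-1, 0)],
  [(0, 0), (0, 0), (0, 0), (0, 0), (0, 0), (0, 0), (0, 0), (0, 0), (0, 0), (0, 0), (0, 0), (0, 0), (0, 0), (0, 0), (0, 0), (0, 0), (0, 0), (0, 0), (0, 0), (0, 0), (0, 0), (0, 0), (0, 0), (0, 0), (-1, -1), (1, 0), (1, 2), (-1, 0)],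
  [(0, 0), (0, 0), (0, 0), (0, 0), (0, 0), (0, 0), (0, 0), (0, 0), (0, 0), (0, 0), (0, 0), (0, 0), (0, 0), (0, 0), (0, 0), (0, 0), (0, 0), (0, 0), (0, 0), (0, 0), (0, 0), (0, 0), (0, 0), (0, 0), (0, 0), (1, 0), (0, 0), (0, 0)]]

/-- Coefficients of the images under the sign change. -/
def cS : List (List (ℤ × ℤ)) := [[(-1, 0), (0, 0), (0, 0), (0, 0), (2, 0), (2, -2), (-3, 1), (0, 2), (-4, 0), (-2, 4), (-3, -1), (0, -1), (-1, -4), (-1, 5), (2, -1), (-2, 4), (7, 2), (-2, -3), (5, -2), (0, 1), (2, 3), (1, -3), (7, -1), (1, 2), (3, -5), (3, 1), (-2, 2), (2, -1)],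
  [(0, 0), (-1, 0), (0, 0), (0, 0), (0, 2), (1, 1), (-1, -1), (-1, 1), (-1, -1), (-2, 0), (0, -1), (0, -1), (0, -1), (-1, 2), (1, 0), (-1, 0), (1, 3), (1, -1), (3, 2), (0, 0), (-1, 3), (0, -1), (4, 1), (-1, 2), (4, -1), (0, 1), (-4, -1), (3, -1)],
  [(0, 0), (0, 0), (-1, 0), (0, 0), (0, -2), (-2, 0), (1, 1), (1, -1), (2, 2), (3, -1), (2, 2), (-1, 1), (-2, 3), (4, -2), (-1, -1), (4, -2), (-3, -3), (1, 3), (-1, 0), (1, -1), (0, 0), (-3, 1), (-2, -4), (0, 1), (-1, 1), (-2, -1), (-3, -1), (1, -2)],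
  [(0, 0), (0, 0), (0, 0), (-1, 0), (-2, 2), (1, 3), (0, -4), (-3, -1), (1, -5), (-4, -4), (3, -4), (1, 1), (7, 1), (-6, -5), (-1, 3), (-5, -4), (-4, 5), (4, -2), (-2, 4), (-1, 1), (-2, -1), (4, 3), (-5, 7), (-2, -1), (4, 4), (-2, 5), (-2, -1), (-2, 2)],
  [(0, 0), (0, 0), (0, 0), (0, 0), (1, 0), (0, 0), (0, 0), (0, 0), (0, 0), (0, 0), (0, 0), (0, 0), (-1, 1), (1, 1), (1, -1), (1, -1), (1, 1), (1, 0), (3, -1), (0, 0), (1, 3), (-1, 1), (1, -3), (1, 2), (2, -1), (-1, 1), (-4, 1), (1, -3)],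
  [(0, 0), (0, 0), (0, 0), (0, 0), (0, 0), (1, 0), (0, 0), (0, 0), (0, 0), (0, 0), (0, 0), (0, 0), (0, 0), (0, 0), (1, -1), (-1, -1), (1, 1), (0, 0), (1, -1), (0, 0), (1, -1), (2, 2), (-2, 0), (0, -1), (-1, 2), (-1, 1), (2, 0), (-2, 1)],
  [(0, 0), (0, 0), (0, 0), (0, 0), (0, 0), (0, 0), (1, 0), (0, 0), (0, 0), (0, 0), (0, 0), (0, 0), (1, 3), (2, -2), (-2, -2), (-2, -2), (2, -2), (0, -2), (-1, -7), (-1, 0), (6, -1), (1, 2), (-6, -3), (5, -2), (-3, -5), (2, 1), (3, 10), (-6, -4)],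
  [(0, 0), (0, 0), (0, 0), (0, 0), (0, 0), (0, 0), (0, 0), (1, 0), (0, 0), (0, 0), (0, 0), (0, 0), (0, 0), (0, -2), (-2, 2), (-1, 1), (-2, -2), (-1, 0), (-3, 1), (-1, -1), (-1, -3), (0, -1), (-1, 3), (0, -1), (-3, 0), (1, -2), (4, 1), (-2, 2)],
  [(0, 0), (0, 0), (0, 0), (0, 0), (0, 0), (0, 0), (0, 0), (0, 0), (1, 0), (0, 0), (0, 0), (0, 0), (0, 0), (0, 0), (0, 0), (0, 0), (0, 0), (0, 0), (0, 0), (0, 0), (-1, 0), (0, 0), (0, 0), (0, 0), (0, 0), (0, 0), (0, 0), (0, 0)],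
  [(0, 0), (0, 0), (0, 0), (0, 0), (0, 0), (0, 0), (0, 0), (0, 0), (0, 0), (1, 0), (0, 0), (0, 0), (0, 0), (0, 0), (0, 0), (1, 1), (0, 0), (1, 0), (1, 1), (0, 0), (-1, 2), (-2, -2), (4, 1), (0, 0), (1, -1), (1, -2), (0, -1), (2, 0)],
  [(0, 0), (0, 0), (0, 0), (0, 0), (0, 0), (0, 0), (0, 0), (0, 0), (0, 0), (0, 0), (1, 0), (0, 0), (-2, 2), (2, 0), (0, -2), (0, -2), (2, 0), (1, -1), (4, -4), (-1, -1), (3, 3), (-1, 1), (1, -5), (2, 2), (2, -4), (-1, 2), (-5, 5), (0, -5)],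
  [(0, 0), (0, 0), (0, 0), (0, 0), (0, 0), (0, 0), (0, 0), (0, 0), (0, 0), (0, 0), (0, 0), (1, 0), (-2, -2), (-2, 2), (2, 0), (0, 0), (0, 2), (-1, 1), (2, 2), (0, 0), (-2, 0), (1, 1), (1, 1), (-2, 0), (0, 4), (-2, 0), (1, -4), (1, 2)],
  [(0, 0), (0, 0), (0, 0), (0, 0), (0, 0), (0, 0), (0, 0), (0, 0), (0, 0), (0, 0), (0, 0), (0, 0), (-1, 0), (0, 0), (0, 0), (0, 0), (0, 0), (0, 0), (2, 0), (-1, -1), (1, 1), (-1, 1), (0, -2), (0, 0), (0, -1), (-1, 0), (-2, 1), (0, -2)],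
  [(0, 0), (0, 0), (0, 0), (0, 0), (0, 0), (0, 0), (0, 0), (0, 0), (0, 0), (0, 0), (0, 0), (0, 0), (0, 0), (-1, 0), (0, 0), (0, 0), (0, 0), (-1, -1), (0, -2), (-1, 1), (2, 0), (-1, 1), (0, -2), (1, -1), (-3, -2), (0, -1), (3, 3), (-2, -1)],
  [(0, 0), (0, 0), (0, 0), (0, 0), (0, 0), (0, 0), (0, 0), (0, 0), (0, 0), (0, 0), (0, 0), (0, 0), (0, 0), (0, 0), (-1, 0), (0, 0), (0, -2), (-1, -1), (-2, -2), (0, 0), (1, -1), (0, 0), (-1, -1), (1, -1), (-2, -2), (1, 0), (2, 3), (-2, 0)],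
  [(0, 0), (0, 0), (0, 0), (0, 0), (0, 0), (0, 0), (0, 0), (0, 0), (0, 0), (0, 0), (0, 0), (0, 0), (0, 0), (0, 0), (0, 0), (-1, 0), (0, 0), (-1, 1), (-2, 0), (0, 0), (0, -2), (1, 1), (-2, 0), (-1, -1), (-2, 3), (-1, 0), (3, -3), (-1, 2)],
  [(0, 0), (0, 0), (0, 0), (0, 0), (0, 0), (0, 0), (0, 0), (0, 0), (0, 0), (0, 0), (0, 0), (0, 0), (0, 0), (0, 0), (0, 0), (0, 0), (1, 0), (0, 0), (0, 0), (0, 0), (0, 0), (0, 0), (1, -1), (0, 0), (1, 1), (-1, 0), (-1, -3), (1, 0)],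
  [(0, 0), (0, 0), (0, 0), (0, 0), (0, 0), (0, 0), (0, 0), (0, 0), (0, 0), (0, 0), (0, 0), (0, 0), (0, 0), (0, 0), (0, 0), (0, 0), (0, 0), (1, 0), (0, 0), (0, 0), (-2, 0), (2, -2), (0, 4), (0, 2), (4, 0), (2, 2), (-3, 1), (1, 1)],
  [(0, 0), (0, 0), (0, 0), (0, 0), (0, 0), (0, 0), (0, 0), (0, 0), (0, 0), (0, 0), (0, 0), (0, 0), (0, 0), (0, 0), (0, 0), (0, 0), (0, 0), (0, 0), (1, 0), (0, 0), (1, 1), (-1, 1), (0, -2), (0, 0), (0, -1), (-1, 0), (-2, 1), (0, -2)],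
  [(0, 0), (0, 0), (0, 0), (0, 0), (0, 0), (0, 0), (0, 0), (0, 0), (0, 0), (0, 0), (0, 0), (0, 0), (0, 0), (0, 0), (0, 0), (0, 0), (0, 0), (0, 0), (0, 0), (1, 0), (0, 0), (0, 0), (0, 0), (0, 0), (0, 0), (0, 0), (0, 0), (0, 0)],
  [(0, 0), (0, 0), (0, 0), (0, 0), (0, 0), (0, 0), (0, 0), (0, 0), (0, 0), (0, 0), (0, 0), (0, 0), (0, 0), (0, 0), (0, 0), (0, 0), (0, 0), (0, 0), (0, 0), (0, 0), (-1, 0), (0, 0), (0, 0), (0, 0), (0, 0), (0, 0), (0, 0), (0, 0)],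
  [(0, 0), (0, 0), (0, 0), (0, 0), (0, 0), (0, 0), (0, 0), (0, 0), (0, 0), (0, 0), (0, 0), (0, 0), (0, 0), (0, 0), (0, 0), (0, 0), (0, 0), (0, 0), (0, 0), (0, 0), (0, 0), (-1, 0), (0, 0), (0, 0), (0, 0), (0, 0), (0, 0), (0, 0)],
  [(0, 0), (0, 0), (0, 0), (0, 0), (0, 0), (0, 0), (0, 0), (0, 0), (0, 0), (0, 0), (0, 0), (0, 0), (0, 0), (0, 0), (0, 0), (0, 0), (0, 0), (0, 0), (0, 0), (0, 0), (0, 0), (0, 0), (-1, 0), (0, 0), (0, 0), (0, 0), (0, 0), (0, 0)],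
  [(0, 0), (0, 0), (0, 0), (0, 0), (0, 0), (0, 0), (0, 0), (0, 0), (0, 0), (0, 0), (0, 0), (0, 0), (0, 0), (0, 0), (0, 0), (0, 0), (0, 0), (0, 0), (0, 0), (0, 0), (0, 0), (0, 0), (0, 0), (-1, 0), (0, 0), (0, 0), (0, 0), (0, 0)],
  [(0, 0), (0, 0), (0, 0), (0, 0), (0, 0), (0, 0), (0, 0), (0, 0), (0, 0), (0, 0), (0, 0), (0, 0), (0, 0), (0, 0), (0, 0), (0, 0), (0, 0), (0, 0), (0, 0), (0, 0), (0, 0), (0, 0), (0, 0), (0, 0), (-1, 0), (0, 0), (0, 0), (0, 0)],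
  [(0, 0), (0, 0), (0, 0), (0, 0), (0, 0), (0, 0), (0, 0), (0, 0), (0, 0), (0, 0), (0, 0), (0, 0), (0, 0), (0, 0), (0, 0), (0, 0), (0, 0), (0, 0), (0, 0), (0, 0), (0, 0), (0, 0), (0, 0), (0, 0), (0, 0), (-1, 0), (0, 0), (0, 0)],
  [(0, 0), (0, 0), (0, 0), (0, 0), (0, 0), (0, 0), (0, 0), (0, 0), (0, 0), (0, 0), (0, 0), (0, 0), (0, 0), (0, 0), (0, 0), (0, 0), (0, 0), (0, 0), (0, 0), (0, 0), (0, 0), (0, 0), (0, 0), (0, 0), (0, 0), (0, 0), (-1, 0), (0, 0)],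
  [(0, 0), (0, 0), (0, 0), (0, 0), (0, 0), (0, 0), (0, 0), (0, 0), (0, 0), (0, 0), (0, 0), (0, 0), (0, 0), (0, 0), (0, 0), (0, 0), (0, 0), (0, 0), (0, 0), (0, 0), (0, 0), (0, 0), (0, 0), (0, 0), (0, 0), (0, 0), (0, 0), (-1, 0)]]

/-- Coefficients of the images under the shift. -/
def cH : List (List (ℤ × ℤ)) := [[(-1, 0), (-1, 0), (1, 0), (0, -1), (0, 1), (1, 0), (-1, -1), (-1, 1), (-1, -2), (-2, 1), (0, -1), (0, -1), (1, 0), (0, 1), (0, -1), (-3, 1), (5, 3), (1, -2), (4, -2), (-2, 1), (1, 3), (2, -1), (4, 0), (0, 1), (5, -2), (0, 3), (-4, 0), (1, -2)],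
  [(0, -1), (0, 0), (1, 0), (1, -1), (-1, 0), (0, 0), (2, 0), (1, -1), (1, 1), (1, -1), (0, 1), (0, 0), (-1, 2), (2, -2), (-1, 0), (0, -1), (-1, -2), (0, 1), (-1, -2), (-1, -1), (1, -2), (0, 2), (-3, -1), (1, -2), (-3, 2), (-2, -2), (3, 0), (-3, 0)],
  [(0, 1), (1, 0), (-1, 0), (-1, 1), (0, 0), (0, 0), (-1, -1), (-1, 0), (0, -2), (-2, -1), (0, -2), (1, 1), (4, -3), (-5, -1), (0, 2), (-2, 0), (-2, 2), (0, -1), (-3, 3), (1, 1), (-2, -2), (3, 0), (-3, 6), (-2, -1), (1, 3), (1, 2), (2, -2), (-1, 4)],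
  [(1, -1), (0, -1), (0, 2), (2, 1), (-1, -1), (0, 1), (0, 1), (0, 0), (-2, 1), (-1, 1), (-2, 0), (2, -1), (-3, -3), (-1, 5), (3, 0), (-1, 0), (0, 4), (-1, 1), (3, 4), (1, -2), (-2, 0), (1, 0), (3, 5), (0, 0), (0, 3), (0, -2), (3, -3), (2, 2)],
  [(-1, 0), (1, 0), (-1, -1), (-2, -1), (-1, -1), (-1, 1), (1, -2), (-1, -2), (2, -1), (1, -3), (4, -1), (-1, 2), (5, 7), (1, -9), (-4, 1), (0, -5), (-4, -3), (3, -1), (-4, -4), (-2, 1), (5, -1), (-2, 5), (-9, -6), (3, -2), (-3, -2), (-3, 2), (-1, 7), (-6, -4)],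
  [(0, 0), (-1, -1), (0, 0), (0, 0), (0, 1), (0, 1), (0, -2), (-2, 0), (2, -3), (-2, -2), (2, -1), (1, 0), (1, 2), (-1, 0), (1, -1), (-2, -4), (-1, 7), (3, 0), (4, 3), (-2, -1), (-2, 3), (2, 3), (0, 1), (-2, 2), (5, 4), (-4, 4), (-5, -3), (3, -1)],
  [(0, 0), (0, 0), (-1, -1), (-2, 0), (-1, -1), (-1, 1), (0, 0), (0, -1), (0, 3), (2, -1), (0, 0), (0, 1), (4, 1), (-3, -5), (-1, 4), (1, 0), (-6, -6), (-3, 0), (-10, -2), (1, 4), (2, -9), (1, 4), (-12, -1), (0, -5), (-11, 2), (0, 0), (11, 5), (-9, 5)],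
  [(0, 0), (0, 0), (0, 0), (1, 1), (2, 2), (1, -2), (-1, 0), (0, 1), (1, 0), (-2, 2), (-3, 2), (1, -2), (-4, -8), (-4, 9), (5, -1), (0, 5), (1, 6), (-2, 2), (3, 9), (2, -2), (-11, 2), (4, -7), (11, 12), (-7, 2), (8, 8), (1, -1), (0, -16), (11, 9)],
  [(0, 0), (0, 0), (0, 0), (0, 0), (0, 1), (0, 0), (0, 0), (0, 0), (0, 0), (0, 0), (0, 0), (0, 0), (-1, 0), (0, 0), (0, 0), (0, 0), (0, 0), (0, 0), (0, 0), (0, 0), (0, 0), (0, 0), (0, 0), (0, 0), (0, 0), (0, 0), (0, 0), (0, 0)],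
  [(0, 0), (0, 0), (0, 0), (0, 0), (0, 0), (0, 1), (1, 0), (0, 0), (1, 0), (1, -1), (2, 0), (-1, 0), (-1, 4), (4, -2), (-2, -2), (1, -3), (0, -1), (2, 0), (3, -2), (-1, -2), (3, 4), (-4, 1), (0, -6), (3, 2), (0, -5), (0, -1), (-4, 6), (0, -7)],
  [(0, 0), (0, 0), (0, 0), (0, 0), (0, 0), (0, 0), (-1, -1), (-1, 1), (0, -2), (-1, 1), (1, -1), (0, 0), (1, 0), (0, 0), (-1, -1), (-2, 0), (4, 2), (1, -2), (4, -3), (-2, 1), (3, 3), (0, 0), (2, -2), (1, 1), (3, -4), (0, 2), (-4, 3), (0, -4)],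
  [(0, 0), (0, 0), (0, 0), (0, 0), (0, 0), (0, 0), (0, 0), (-1, 1), (0, -2), (0, 2), (3, 1), (-1, 0), (-3, 3), (5, 2), (0, -5), (0, -3), (6, 2), (2, 0), (7, -4), (-1, -1), (4, 6), (-1, 1), (3, -8), (2, 3), (6, -4), (-3, 4), (-11, 2), (4, -8)],
  [(0, 0), (0, 0), (0, 0), (0, 0), (0, 0), (0, 0), (0, 0), (0, 0), (-1, 1), (0, 2), (0, 1), (0, -1), (-2, 0), (1, 2), (0, -1), (0, 2), (1, -2), (-1, 1), (-2, 0), (1, 0), (-2, -1), (1, -4), (2, 3), (0, 0), (1, -1), (3, 0), (1, 0), (1, 2)],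
  [(0, 0), (0, 0), (0, 0), (0, 0), (0, 0), (0, 0), (0, 0), (0, 0), (0, 0), (1, 1), (1, 0), (-1, 0), (0, 2), (1, -1), (-1, 0), (0, 0), (0, -2), (-1, 0), (-2, -3), (-1, 1), (2, -2), (0, 1), (-3, -2), (1, -1), (-4, -1), (0, 0), (4, 3), (-3, 0)],
  [(0, 0), (0, 0), (0, 0), (0, 0), (0, 0), (0, 0), (0, 0), (0, 0), (0, 0), (0, 0), (-1, 0), (0, 0), (1, 0), (-1, -1), (0, 1), (0, 0), (0, 0), (0, -1), (1, -1), (-1, 1), (2, 0), (-1, 2), (-1, -2), (1, -1), (-2, -1), (-1, -1), (1, 2), (-2, -1)],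
  [(0, 0), (0, 0), (0, 0), (0, 0), (0, 0), (0, 0), (0, 0), (0, 0), (0, 0), (0, 0), (0, 0), (1, 0), (-1, -1), (-1, 2), (2, 0), (1, 0), (0, 1), (-1, 1), (-2, 0), (2, 1), (-2, -2), (2, 1), (0, 1), (-2, -1), (-1, 5), (-2, 1), (3, -5), (0, 4)],
  [(0, 0), (0, 0), (0, 0), (0, 0), (0, 0), (0, 0), (0, 0), (0, 0), (0, 0), (0, 0), (0, 0), (0, 0), (-1, 0), (1, 1), (1, -1), (1, -1), (1, 1), (1, 0), (3, -1), (0, 0), (1, 3), (-1, 1), (1, -3), (1, 2), (2, -1), (-1, 1), (-4, 1), (1, -3)],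
  [(0, 0), (0, 0), (0, 0), (0, 0), (0, 0), (0, 0), (0, 0), (0, 0), (0, 0), (0, 0), (0, 0), (0, 0), (0, 0), (1, -1), (0, 0), (1, -1), (1, 1), (2, -2), (6, 0), (-1, -2), (4, 6), (-6, 2), (6, -8), (2, 0), (2, -6), (-3, -2), (-8, 3), (2, -7)],
  [(0, 0), (0, 0), (0, 0), (0, 0), (0, 0), (0, 0), (0, 0), (0, 0), (0, 0), (0, 0), (0, 0), (0, 0), (0, 0), (0, 0), (-1, 0), (-1, 1), (0, -2), (-1, 1), (-4, 0), (1, 0), (-1, -4), (3, -1), (-3, 3), (-2, -1), (0, 2), (1, 2), (1, -2), (-1, 3)],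
  [(0, 0), (0, 0), (0, 0), (0, 0), (0, 0), (0, 0), (0, 0), (0, 0), (0, 0), (0, 0), (0, 0), (0, 0), (0, 0), (0, 0), (0, 0), (-1, 1), (0, 0), (0, 1), (-1, 1), (0, 0), (-2, -1), (2, -2), (0, 4), (-1, 0), (2, 2), (1, 1), (0, -3), (1, 2)],
  [(0, 0), (0, 0), (0, 0), (0, 0), (0, 0), (0, 0), (0, 0), (0, 0), (0, 0), (0, 0), (0, 0), (0, 0), (0, 0), (0, 0), (0, 0), (0, 0), (1, 1), (0, 0), (0, 0), (0, 1), (1, 0), (0, 1), (0, -1), (0, -1), (0, 1), (-1, 0), (0, -2), (0, 0)],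
  [(0, 0), (0, 0), (0, 0), (0, 0), (0, 0), (0, 0), (0, 0), (0, 0), (0, 0), (0, 0), (0, 0), (0, 0), (0, 0), (0, 0), (0, 0), (0, 0), (0, 0), (-1, 0), (-2, 0), (1, 0), (1, 1), (-3, -1), (4, -1), (2, -3), (-2, 0), (-1, -4), (4, -4), (1, 1)],
  [(0, 0), (0, 0), (0, 0), (0, 0), (0, 0), (0, 0), (0, 0), (0, 0), (0, 0), (0, 0), (0, 0), (0, 0), (0, 0), (0, 0), (0, 0), (0, 0), (0, 0), (0, 0), (-1, 1), (1, 0), (-1, 1), (0, -2), (1, 2), (1, 0), (1, 0), (2, -1), (1, -1), (1, 1)],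
  [(0, 0), (0, 0), (0, 0), (0, 0), (0, 0), (0, 0), (0, 0), (0, 0), (0, 0), (0, 0), (0, 0), (0, 0), (0, 0), (0, 0), (0, 0), (0, 0), (0, 0), (0, 0), (0, 0), (1, 0), (0, 0), (0, 0), (0, 0), (0, 0), (0, 0), (0, 0), (0, 0), (0, 0)],
  [(0, 0), (0, 0), (0, 0), (0, 0), (0, 0), (0, 0), (0, 0), (0, 0), (0, 0), (0, 0), (0, 0), (0, 0), (0, 0), (0, 0), (0, 0), (0, 0), (0, 0), (0, 0), (0, 0), (0, 0), (-1, -1), (1, -1), (0, 4), (0, 0), (-1, 1), (1, -2), (4, 0), (-1, 2)],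
  [(0, 0), (0, 0), (0, 0), (0, 0), (0, 0), (0, 0), (0, 0), (0, 0), (0, 0), (0, 0), (0, 0), (0, 0), (0, 0), (0, 0), (0, 0), (0, 0), (0, 0), (0, 0), (0, 0), (0, 0), (0, 0), (1, -1), (-1, 1), (0, 1), (1, -1), (2, 1), (-1, 2), (0, 0)],
  [(0, 0), (0, 0), (0, 0), (0, 0), (0, 0), (0, 0), (0, 0), (0, 0), (0, 0), (0, 0), (0, 0), (0, 0), (0, 0), (0, 0), (0, 0), (0, 0), (0, 0), (0, 0), (0, 0), (0, 0), (0, 0), (0, 0), (1, 1), (0, -1), (0, 1), (-1, -1), (1, -2), (0, 1)],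
  [(0, 0), (0, 0), (0, 0), (0, 0), (0, 0), (0, 0), (0, 0), (0, 0), (0, 0), (0, 0), (0, 0), (0, 0), (0, 0), (0, 0), (0, 0), (0, 0), (0, 0), (0, 0), (0, 0), (0, 0), (0, 0), (0, 0), (0, 0), (1, 0), (0, 0), (0, 0), (0, 0), (0, 0)]]

/-- Tests on the first level, one for each position. -/
def T3 : List (List (ℤ × ℤ)) := [[(0, 0), (0, 0), (0, 0), (0, 0), (0, 0), (0, 0), (0, 0), (0, 0), (0, 0), (0, 0), (0, 0), (0, 0), (0, 0), (0, 0), (0, 0), (0, 0), (0, 0), (0, 0), (0, 0), (0, 0), (0, 0), (0, 0), (0, 0), (0, 0), (0, 0), (0, 0), (0, 0), (0, 0)],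
  [(0, 0), (0, 0), (0, 0), (0, 0), (0, 0), (0, 0), (0, 0), (0, 0), (0, 0), (0, 0), (0, 0), (0, 0), (0, 0), (0, 0), (0, 0), (0, 0), (0, 0), (0, 0), (0, 0), (0, 0), (0, 0), (0, 0), (0, 0), (0, 0), (0, 0), (0, 0), (0, 0), (0, 0)],
  [(0, 0), (0, 0), (0, 0), (0, 0), (0, 0), (0, 0), (0, 0), (0, 0), (0, 0), (0, 0), (0, 0), (0, 0), (0, 0), (0, 0), (0, 0), (0, 0), (0, 0), (0, 0), (0, 0), (0, 0), (0, 0), (0, 0), (0, 0), (0, 0), (0, 0), (0, 0), (0, 0), (0, 0)],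
  [(0, 1), (0, 1), (0, 1), (0, -1), (1, -1), (1, -1), (1, 1), (0, 0), (0, 0), (0, 0), (0, -2), (-1, -1), (-1, 1), (0, 0), (-1, 1), (1, -1), (-1, 1), (-1, -1), (0, 0), (1, 1), (0, 0), (0, 0), (-2, 0), (1, -1), (-1, -1), (0, 0), (2, 0), (0, 0)],
  [(0, 0), (0, 0), (0, 0), (0, 0), (0, 0), (0, 0), (0, 0), (0, 0), (0, 0), (0, 0), (0, 0), (0, 0), (0, 0), (0, 0), (0, 0), (0, 0), (0, 0), (0, 0), (0, 0), (0, 0), (0, 0), (0, 0), (0, 0), (0, 0), (0, 0), (0, 0), (0, 0), (0, 0)],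
  [(0, 0), (0, 0), (0, 0), (0, 0), (0, 0), (0, 0), (0, 0), (0, 0), (0, 0), (0, 0), (0, 0), (0, 0), (0, 0), (0, 0), (0, 0), (0, 0), (0, 0), (0, 0), (0, 0), (0, 0), (0, 0), (0, 0), (0, 0), (0, 0), (0, 0), (0, 0), (0, 0), (0, 0)],
  [(0, 1), (0, 0), (0, 1), (-1, -1), (-1, -1), (1, 0), (1, 0), (2, -2), (-1, -3), (2, 4), (0, 0), (-2, -6), (-4, 0), (-3, 1), (-10, -2), (-3, -3), (0, 2), (-2, 0), (-7, -3), (0, -2), (-4, 2), (-4, -2), (2, 2), (-1, 3), (1, -1), (2, 0), (-1, -1), (-3, -1)],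
  [(0, 1), (0, 0), (0, 1), (-1, -1), (-1, -2), (1, 1), (2, 0), (-1, 0), (2, 0), (-1, 1), (0, 0), (1, -3), (1, 1), (0, -2), (1, -1), (3, -3), (-1, 1), (-2, -2), (-1, -1), (4, -2), (-1, -1), (0, -4), (-1, 3), (1, -1), (-2, 0), (1, 3), (4, 0), (3, 1)],
  [(0, 0), (0, 0), (0, 0), (0, 0), (0, 0), (0, 0), (0, 0), (0, 0), (0, 0), (0, 0), (0, 0), (0, 0), (0, 0), (0, 0), (0, 0), (0, 0), (0, 0), (0, 0), (0, 0), (0, 0), (0, 0), (0, 0), (0, 0), (0, 0), (0, 0), (0, 0), (0, 0), (0, 0)],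
  [(0, 0), (0, 1), (0, 1), (0, 0), (1, -1), (1, 1), (3, 1), (0, -2), (0, -1), (-1, 0), (1, -1), (2, -2), (-3, 1), (-1, -1), (-4, 0), (3, -3), (-2, -2), (1, -1), (-2, -4), (0, 4), (0, 0), (-2, -2), (2, 0), (-1, 3), (3, 1), (1, -1), (2, 2), (0, 0)],
  [(0, 1), (0, 1), (0, 2), (-1, -1), (0, -1), (1, 0), (1, 1), (-1, 1), (2, 1), (-1, -1), (-1, -2), (0, 0), (1, 1), (0, -2), (2, 0), (3, -1), (-1, 1), (-1, -1), (2, 0), (2, 0), (0, 0), (0, -2), (-3, 3), (1, -3), (-2, 2), (1, 1), (3, 1), (2, 0)],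
  [(0, 1), (0, 0), (0, 1), (-1, -1), (-1, -2), (0, 1), (2, 0), (0, -2), (0, -1), (0, 0), (-2, 0), (0, -1), (-2, 2), (-2, -2), (-4, 0), (2, -2), (0, 0), (1, 1), (-1, -3), (0, 0), (0, 0), (-2, -2), (2, 4), (-3, 1), (1, 3), (2, -2), (1, 1), (-1, -1)],
  [(0, 0), (0, 0), (0, 0), (0, 0), (0, 0), (0, 0), (0, 0), (0, 0), (0, 0), (0, 0), (0, 0), (0, 0), (0, 0), (0, 0), (0, 0), (0, 0), (0, 0), (0, 0), (0, 0), (0, 0), (0, 0), (0, 0), (0, 0), (0, 0), (0, 0), (0, 0), (0, 0), (0, 0)],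
  [(0, 1), (0, 0), (0, 1), (-1, -1), (-1, -1), (0, 0), (0, 0), (-3, 3), (5, 3), (-4, -2), (-1, 1), (1, 3), (6, 3), (5, -4), (13, 3), (1, 7), (1, 1), (2, 2), (9, 5), (1, 1), (7, -1), (2, 2), (-6, 0), (1, -7), (-6, 2), (-1, -1), (2, 0), (2, -4)],
  [(0, 0), (0, 1), (0, 1), (0, 0), (1, 0), (1, 0), (1, 1), (-1, 1), (1, 1), (-1, -1), (1, -3), (1, -1), (-1, 0), (-1, -1), (0, -1), (4, -4), (-2, 0), (-1, -3), (0, -2), (3, 1), (-1, -1), (1, -3), (-2, 2), (3, 1), (0, 0), (0, 2), (4, 2), (2, 2)],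
  [(0, 1), (0, 1), (0, 2), (-1, -1), (0, -1), (1, 0), (1, 1), (1, -1), (1, -1), (0, 2), (0, 0), (1, -5), (-4, -1), (-4, 0), (-8, -4), (3, -8), (-1, 1), (-2, -4), (-6, -6), (5, -1), (-4, 0), (-3, -7), (2, 6), (2, 6), (2, 0), (2, 2), (3, 3), (1, 1)],
  [(0, 0), (0, 0), (0, 0), (0, 0), (0, 0), (0, 0), (0, 0), (0, 0), (0, 0), (0, 0), (0, 0), (0, 0), (0, 0), (0, 0), (0, 0), (0, 0), (0, 0), (0, 0), (0, 0), (0, 0), (0, 0), (0, 0), (0, 0), (0, 0), (0, 0), (0, 0), (0, 0), (0, 0)],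
  [(0, 1), (0, 0), (0, 1), (-1, -1), (-1, -2), (0, 1), (2, 0), (-1, -1), (2, 0), (-2, 0), (-1, 3), (1, 1), (3, 3), (3, -3), (5, 3), (1, 5), (1, 0), (3, 2), (4, 4), (-1, 1), (5, -1), (0, 2), (-2, -2), (-2, -4), (-2, 0), (-1, -1), (1, -1), (-1, -3)],
  [(0, 1), (0, 1), (0, 2), (-1, -1), (0, -2), (1, 1), (3, 1), (-1, -1), (2, 0), (-2, 0), (0, 0), (3, -3), (-3, 1), (-5, -3), (-5, -1), (4, -4), (-1, 0), (3, -1), (-1, -6), (1, 1), (-2, -2), (-4, -2), (2, 0), (0, 2), (3, 1), (0, 0), (5, 1), (-3, -1)],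
  [(0, 0), (0, 1), (0, 1), (0, 0), (1, 0), (1, 0), (1, 1), (-1, 1), (1, 1), (-1, -1), (1, -3), (1, -1), (0, 0), (1, -1), (2, 0), (3, -1), (-1, 0), (-2, -2), (2, 0), (2, 1), (0, 0), (1, -1), (-4, 0), (2, -2), (-2, 0), (0, 2), (3, 1), (2, 2)],
  [(0, 0), (0, 0), (0, 0), (0, 0), (0, 0), (0, 0), (0, 0), (0, 0), (0, 0), (0, 0), (0, 0), (0, 0), (0, 0), (0, 0), (0, 0), (0, 0), (0, 0), (0, 0), (0, 0), (0, 0), (0, 0), (0, 0), (0, 0), (0, 0), (0, 0), (0, 0), (0, 0), (0, 0)],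
  [(0, 1), (0, 1), (0, 2), (-1, -1), (0, -1), (1, 0), (1, 1), (0, 0), (2, 0), (-1, 1), (0, 0), (1, -3), (-2, 0), (-3, -1), (-4, -2), (1, -3), (-1, 1), (1, -1), (-2, -4), (1, 1), (-2, -1), (-3, -2), (1, 1), (2, 2), (2, 0), (0, 0), (3, 1), (-2, -2)],
  [(0, 0), (0, 0), (0, 0), (0, 0), (0, -1), (0, 1), (2, 0), (-2, 0), (1, 1), (-2, -2), (0, 0), (1, 3), (3, 3), (3, -3), (7, 3), (3, 3), (-1, -1), (3, 1), (5, 3), (-1, 3), (5, -2), (3, 1), (-2, -1), (-1, -3), (-1, 1), (-1, -1), (2, 0), (1, -1)],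
  [(0, 1), (0, 1), (0, 2), (-1, -1), (0, -2), (1, 1), (3, 1), (-1, -1), (2, 0), (-2, 0), (0, 0), (3, -3), (-3, 1), (-5, -3), (-5, -1), (4, -4), (0, 0), (1, -1), (-1, -7), (2, 0), (-2, -1), (-5, -3), (2, 2), (-1, 2), (1, 3), (2, 0), (4, 2), (-2, 0)],
  [(0, 1), (0, 0), (0, 0), (0, -2), (0, -3), (0, 0), (3, 1), (0, -2), (0, -1), (-1, 1), (1, 1), (1, -3), (-2, 3), (-3, -1), (-5, 1), (2, -2), (1, 2), (0, -2), (-3, -3), (3, -3), (0, -1), (-3, -1), (2, 0), (-1, 1), (0, 1), (2, 0), (1, -1), (-3, -1)],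
  [(0, 1), (0, 1), (0, 1), (0, -2), (1, -3), (1, 0), (4, 2), (2, -4), (-2, -3), (1, 3), (2, 0), (-1, -5), (-4, 3), (-1, 1), (-9, 1), (2, -4), (-1, 2), (-2, -4), (-8, 0), (4, -2), (-1, 0), (-2, -2), (1, -1), (1, 3), (1, -3), (1, 2), (1, -1), (-2, 0)],
  [(0, 1), (0, 1), (0, 1), (0, -2), (1, -2), (1, -1), (2, 2), (1, -1), (0, -1), (0, 2), (2, -2), (-2, -4), (-2, 3), (1, 1), (-4, 2), (-1, 1), (0, 3), (-2, -2), (-3, 3), (2, -2), (1, 2), (-1, 1), (-4, -2), (2, -2), (-2, -2), (1, 1), (-1, -2), (-2, -2)],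
  [(0, 1), (0, 0), (0, 0), (0, -2), (0, -2), (0, -1), (1, 1), (0, 0), (1, 0), (-1, 1), (1, 1), (1, -3), (0, 1), (-2, 0), (-2, -2), (3, -5), (0, 3), (-3, -5), (-4, -4), (7, -3), (-1, -2), (-1, -5), (2, 4), (3, 3), (-1, 1), (2, 2), (3, 1), (1, 0)]]

/-- Tests on the second level, one for each position. -/
def T2 : List (List (ℤ × ℤ)) := [[(0, 0), (0, 0), (0, 0), (0, 0), (0, 0), (0, 0), (0, 0), (0, 0), (0, 0), (0, 0), (0, 0), (0, 0), (0, 0), (0, 0), (0, 0), (0, 0), (0, 0), (0, 0), (0, 0), (0, 0), (0, 0), (0, 0), (0, 0), (0, 0), (0, 0), (0, 0), (0, 0), (0, 0)],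
  [(0, 0), (0, 0), (0, 0), (0, 0), (0, 0), (0, 0), (0, 0), (0, 0), (0, 0), (0, 0), (0, 0), (0, 0), (0, 0), (0, 0), (0, 0), (0, 0), (0, 0), (0, 0), (0, 0), (0, 0), (0, 0), (0, 0), (0, 0), (0, 0), (0, 0), (0, 0), (0, 0), (0, 0)],
  [(0, 0), (0, 0), (0, 0), (0, 0), (0, 0), (0, 0), (0, 0), (0, 0), (0, 0), (0, 0), (0, 0), (0, 0), (0, 0), (0, 0), (0, 0), (0, 0), (0, 0), (0, 0), (0, 0), (0, 0), (0, 0), (0, 0), (0, 0), (0, 0), (0, 0), (0, 0), (0, 0), (0, 0)],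
  [(1, 0), (1, 0), (1, 0), (-1, 0), (-1, -1), (-1, -1), (1, -1), (0, 0), (0, 0), (0, 0), (-2, 0), (-1, 1), (1, 1), (0, 0), (1, 1), (-1, -1), (1, 1), (-1, 1), (0, 0), (1, -1), (0, 0), (0, 0), (0, 2), (-1, -1), (-1, 1), (0, 0), (0, -2), (0, 0)],
  [(0, 0), (0, 0), (0, 0), (0, 0), (0, 0), (0, 0), (0, 0), (0, 0), (0, 0), (0, 0), (0, 0), (0, 0), (0, 0), (0, 0), (0, 0), (0, 0), (0, 0), (0, 0), (0, 0), (0, 0), (0, 0), (0, 0), (0, 0), (0, 0), (0, 0), (0, 0), (0, 0), (0, 0)],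
  [(0, 0), (0, 0), (0, 0), (0, 0), (0, 0), (0, 0), (0, 0), (0, 0), (0, 0), (0, 0), (0, 0), (0, 0), (0, 0), (0, 0), (0, 0), (0, 0), (0, 0), (0, 0), (0, 0), (0, 0), (0, 0), (0, 0), (0, 0), (0, 0), (0, 0), (0, 0), (0, 0), (0, 0)],
  [(1, 0), (0, 0), (1, 0), (-1, 1), (-1, 1), (0, -1), (0, -1), (0, 0), (-1, -1), (2, 0), (0, 0), (-4, 0), (0, 0), (-1, 1), (-2, 2), (-3, -1), (2, 0), (-1, 3), (0, 2), (-4, -2), (0, 2), (-2, 0), (2, 2), (-1, -1), (0, 2), (3, -1), (-1, -3), (1, -1)],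
  [(1, 0), (0, 0), (1, 0), (2, -2), (1, -2), (1, -1), (0, 4), (-1, 0), (2, 2), (-1, -3), (3, 3), (2, 0), (1, 7), (-1, 1), (-1, 3), (0, 2), (-2, 2), (5, -3), (-1, 1), (2, -2), (5, -1), (-2, 4), (3, -1), (4, -2), (1, -1), (-1, -5), (5, -1), (-1, -3)],
  [(0, 0), (0, 0), (0, 0), (0, 0), (0, 0), (0, 0), (0, 0), (0, 0), (0, 0), (0, 0), (0, 0), (0, 0), (0, 0), (0, 0), (0, 0), (0, 0), (0, 0), (0, 0), (0, 0), (0, 0), (0, 0), (0, 0), (0, 0), (0, 0), (0, 0), (0, 0), (0, 0), (0, 0)],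
  [(0, 0), (1, 0), (1, 0), (0, 0), (-1, -1), (1, -1), (1, -3), (-2, 0), (-1, 0), (0, 1), (-1, -1), (0, 0), (3, 1), (-1, -3), (4, 0), (5, 1), (-2, 0), (4, 0), (3, -1), (2, 4), (2, -4), (6, 2), (-6, 2), (-3, 1), (2, 2), (-2, 0), (0, 0), (-2, 2)],
  [(1, 0), (1, 0), (2, 0), (0, 0), (0, -1), (0, -1), (1, 1), (0, 0), (1, 0), (-1, -1), (-1, 2), (1, 1), (1, 3), (-1, 1), (0, 2), (0, 0), (0, 2), (2, -2), (0, 0), (2, 0), (2, 0), (0, 2), (1, 1), (0, -2), (1, -1), (-1, -1), (2, -2), (-2, 0)],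
  [(1, 0), (0, 0), (1, 0), (-3, 3), (-4, 3), (1, 0), (0, -6), (0, 2), (-1, -4), (0, 4), (-2, 0), (-1, 0), (4, -8), (-4, -4), (4, -8), (6, -2), (2, -2), (2, 2), (4, -6), (-2, 4), (-4, -4), (6, -2), (-4, 4), (-11, 3), (4, 6), (-1, 3), (-5, -3), (-3, 3)],
  [(0, 0), (0, 0), (0, 0), (0, 0), (0, 0), (0, 0), (0, 0), (0, 0), (0, 0), (0, 0), (0, 0), (0, 0), (0, 0), (0, 0), (0, 0), (0, 0), (0, 0), (0, 0), (0, 0), (0, 0), (0, 0), (0, 0), (0, 0), (0, 0), (0, 0), (0, 0), (0, 0), (0, 0)],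
  [(1, 0), (0, 0), (1, 0), (-2, 2), (-2, 2), (0, 0), (0, -2), (2, 2), (1, -5), (0, 4), (0, 0), (0, 0), (3, -6), (-3, -4), (3, -9), (8, 2), (2, -2), (4, 0), (4, -6), (-1, 3), (-1, -5), (6, 0), (-4, 4), (-8, 0), (4, 6), (-2, 2), (-3, -1), (-6, 2)],
  [(0, 0), (1, 0), (1, 0), (1, -1), (1, -2), (0, -1), (1, 1), (0, 0), (1, 1), (-1, -1), (-2, 0), (0, 0), (0, 5), (0, 2), (-1, 4), (-3, -1), (-1, 1), (1, 1), (-1, 1), (-1, -1), (3, 1), (-1, 1), (2, 2), (2, -2), (2, 0), (1, -3), (3, -1), (2, -2)],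
  [(1, 0), (1, 0), (2, 0), (0, 0), (0, -1), (0, -1), (1, 1), (0, 0), (1, -1), (0, 0), (1, 1), (0, 0), (1, 2), (-1, -1), (0, 0), (3, 2), (0, 0), (3, -1), (0, -2), (3, 1), (2, -2), (1, 3), (0, 2), (-1, -1), (1, 1), (-2, -2), (2, 0), (-3, 1)],
  [(0, 0), (0, 0), (0, 0), (0, 0), (0, 0), (0, 0), (0, 0), (0, 0), (0, 0), (0, 0), (0, 0), (0, 0), (0, 0), (0, 0), (0, 0), (0, 0), (0, 0), (0, 0), (0, 0), (0, 0), (0, 0), (0, 0), (0, 0), (0, 0), (0, 0), (0, 0), (0, 0), (0, 0)],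
  [(1, 0), (0, 0), (1, 0), (-1, 1), (-2, 1), (1, 0), (0, -2), (-1, 1), (0, -2), (0, 2), (3, 1), (1, -1), (3, -3), (-3, -3), (3, -5), (7, 1), (0, -1), (4, -3), (2, -4), (3, 3), (-1, -5), (4, 2), (-4, 0), (-4, 2), (2, 2), (-3, 1), (-1, -1), (-5, 3)],
  [(1, 0), (1, 0), (2, 0), (-1, 1), (-2, 0), (1, -1), (1, -3), (1, 3), (2, -4), (-2, 4), (0, 0), (1, -3), (3, -3), (-5, -1), (3, -7), (6, -2), (0, -1), (3, -3), (0, -9), (3, 3), (-2, -4), (4, 2), (-4, 4), (-8, 2), (3, 3), (-2, 0), (-1, -3), (-3, 3)],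
  [(0, 0), (1, 0), (1, 0), (-1, 1), (-1, 0), (0, -1), (1, -3), (0, 0), (-1, -1), (1, 1), (-4, -2), (-4, 0), (0, 0), (0, 0), (0, 2), (-2, -2), (1, 0), (-2, 4), (1, 1), (-3, 0), (0, 2), (1, -1), (-2, 4), (-3, -1), (0, 2), (3, 1), (-2, -2), (2, 0)],
  [(0, 0), (0, 0), (0, 0), (0, 0), (0, 0), (0, 0), (0, 0), (0, 0), (0, 0), (0, 0), (0, 0), (0, 0), (0, 0), (0, 0), (0, 0), (0, 0), (0, 0), (0, 0), (0, 0), (0, 0), (0, 0), (0, 0), (0, 0), (0, 0), (0, 0), (0, 0), (0, 0), (0, 0)],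
  [(1, 0), (1, 0), (2, 0), (-1, 1), (-1, 0), (0, -1), (1, -1), (2, 2), (2, -4), (-1, 3), (0, 0), (1, -1), (2, -4), (-3, -3), (2, -8), (7, 1), (1, -1), (3, -1), (2, -8), (3, 3), (-1, -4), (4, 1), (-3, 5), (-8, 0), (2, 4), (-2, 0), (-1, -1), (-4, 2)],
  [(0, 0), (0, 0), (0, 0), (0, 0), (-1, 0), (1, 0), (0, -2), (0, 2), (1, -1), (-2, 2), (0, 0), (3, -1), (3, -3), (-3, -3), (3, -7), (5, -1), (-1, 1), (3, -3), (1, -5), (5, 3), (-2, -5), (3, -1), (-3, 0), (-3, 1), (3, 1), (-3, 1), (0, -2), (-3, 1)],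
  [(1, 0), (1, 0), (2, 0), (0, 0), (-1, -1), (1, -1), (1, -1), (0, 2), (2, -2), (-2, 2), (1, 1), (0, -4), (1, 3), (-4, 4), (-1, 1), (-3, -5), (-1, 1), (0, -4), (-5, -3), (2, -2), (-1, 0), (-3, 3), (2, 0), (1, 0), (2, -2), (0, -2), (3, -5), (0, 0)],
  [(0, 0), (0, 0), (0, 0), (0, 0), (0, 0), (0, 0), (0, 0), (0, 0), (0, 0), (0, 0), (0, 0), (0, 0), (0, 0), (0, 0), (0, 0), (0, 0), (0, 0), (0, 0), (0, 0), (0, 0), (0, 0), (0, 0), (0, 0), (0, 0), (0, 0), (0, 0), (0, 0), (0, 0)],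
  [(0, 0), (1, 0), (1, 0), (2, -2), (2, -3), (0, -1), (1, 3), (0, 0), (2, 2), (-2, -2), (-1, 1), (2, 0), (0, 6), (0, 0), (0, 2), (2, 2), (-2, 2), (4, -2), (-1, -1), (5, 1), (5, -1), (1, 3), (-1, 1), (2, -2), (2, -1), (-2, -3), (4, 0), (-1, -1)],
  [(0, 0), (1, 0), (1, 0), (0, 0), (-1, -1), (1, -1), (1, -3), (-3, -1), (-2, 2), (1, -1), (-1, -1), (1, 3), (4, 0), (0, -6), (5, -1), (7, 3), (-1, 1), (4, 0), (6, 0), (5, 5), (1, -5), (6, 0), (-6, 2), (-3, 1), (-1, 2), (-3, 1), (-1, 2), (-3, 3)],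
  [(0, 0), (0, 0), (0, 0), (-1, 1), (-2, 1), (1, 0), (0, -4), (-1, 1), (-1, -1), (0, 2), (-1, -1), (-1, -1), (2, -2), (-2, 0), (1, -1), (-2, -4), (0, 0), (-1, 1), (0, 0), (-2, 0), (-3, -1), (0, -2), (0, 0), (-1, 1), (2, 1), (1, 1), (-1, -3), (1, 0)]]

/-- Tests on the third level. -/
def T1 : List (List (ℤ × ℤ)) := [[(0, -1), (0, 0), (0, 0), (0, 1), (0, 1), (0, 1), (0, 0), (0, 0), (0, 0), (0, 0), (1, 0), (1, 0), (0, -1), (0, 0), (0, -1), (0, 0), (0, -1), (0, 0), (0, 0), (-1, 0), (-1, 0), (0, 0), (0, -1), (0, 0), (1, 0), (0, 1), (-1, 0), (0, 1)],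
  [(0, 0), (0, -1), (0, -1), (0, 0), (-1, 0), (0, 0), (0, -1), (0, 0), (0, -1), (0, 1), (0, 1), (0, -1), (1, 0), (0, 0), (0, 0), (-1, 0), (0, 0), (0, 0), (-1, 0), (0, -1), (0, 0), (0, 0), (1, 0), (-1, 0), (0, -1), (0, 0), (0, -1), (0, 0)],
  [(0, 0), (0, 0), (0, -1), (1, 0), (1, 0), (0, -1), (0, 0), (0, 0), (-1, 0), (0, 0), (1, 0), (0, 0), (0, 0), (0, 1), (0, 1), (0, 0), (0, 0), (0, -1), (0, 0), (0, 1), (1, 0), (1, 0), (0, -1), (0, 1), (0, -1), (0, 0), (0, 0), (0, 1)],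
  [(0, 0), (0, 0), (0, 0), (-1, -1), (-1, -1), (-1, 0), (1, 0), (0, 0), (1, 0), (-1, 0), (0, 0), (0, 0), (2, 0), (0, 0), (1, 0), (1, 0), (1, 1), (0, -1), (0, 0), (0, -1), (0, -2), (1, 0), (1, 0), (0, 0), (0, 1), (-2, 0), (0, -1), (-1, -1)],
  [(0, 0), (0, 0), (0, 0), (0, 0), (0, 1), (0, -1), (-1, 0), (0, 1), (0, 0), (0, 0), (0, 0), (0, 0), (0, -1), (-1, 0), (0, -1), (0, -1), (0, 1), (0, -1), (0, -1), (1, 0), (-1, 0), (0, -1), (0, 1), (0, 1), (0, 0), (0, 0), (0, 0), (0, 0)],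
  [(0, 0), (0, 0), (0, 0), (1, 1), (1, 1), (0, 0), (-2, 0), (0, 0), (-1, 1), (1, -1), (-1, 1), (0, 2), (-2, 0), (0, 0), (0, 0), (-1, 1), (0, -1), (1, 2), (1, 0), (0, 1), (1, 2), (-1, 0), (0, 1), (0, 1), (0, 1), (2, -1), (-1, 2), (1, 0)],
  [(0, 0), (0, 0), (0, 0), (0, 0), (0, 0), (0, 0), (-1, 1), (1, 1), (2, 0), (0, 0), (-1, -1), (-1, -1), (-2, -1), (0, 1), (-2, -1), (-1, 0), (0, 0), (-1, 1), (-1, -1), (0, -2), (-1, 2), (-1, 0), (0, 1), (1, -2), (0, 0), (1, 1), (0, 0), (1, -1)],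
  [(0, 0), (0, 0), (0, 0), (-1, -1), (-1, -1), (0, 0), (2, 0), (0, -2), (-1, -1), (1, 1), (2, 0), (-1, -1), (2, 0), (2, 0), (0, 2), (1, 1), (0, 0), (-1, -1), (-1, 3), (-1, -1), (0, -2), (1, 1), (0, -2), (0, 0), (-1, -2), (-2, 1), (0, -1), (-1, 0)],
  [(0, 0), (0, 0), (0, 0), (0, 0), (0, 0), (0, 0), (0, 0), (0, 0), (-1, 0), (1, 0), (0, -1), (-1, 0), (0, 0), (0, 0), (0, 0), (0, 0), (0, 1), (-1, 0), (0, 1), (0, -1), (-1, 0), (1, 0), (-1, 0), (0, -1), (-1, 0), (0, 1), (0, -1), (0, 1)],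
  [(0, 0), (0, 0), (0, 0), (-1, -1), (-1, -1), (0, 0), (2, 0), (0, 0), (1, -1), (-2, 0), (-1, -1), (1, -1), (2, 0), (0, 0), (0, 0), (1, -3), (-1, 1), (-2, -2), (-1, -1), (1, -1), (-1, -2), (1, 0), (1, 0), (-1, -2), (1, -1), (-2, 0), (2, -2), (0, 0)]]

/-- Tests on the last level. -/
def T0 : List (List (ℤ × ℤ)) := [[(-1, 0), (0, 0), (0, 0), (1, 0), (1, 0), (1, 0), (0, 0), (0, 0), (0, 0), (0, 0), (0, -1), (0, -1), (-1, 0), (0, 0), (-1, 0), (0, 0), (-1, 0), (0, 0), (0, 0), (0, 1), (0, 1), (0, 0), (-1, 0), (0, 0), (0, -1), (1, 0), (0, 1), (1, 0)],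
  [(0, 0), (-1, 0), (-1, 0), (0, 0), (0, 1), (0, 0), (-1, 0), (0, 0), (-1, 0), (1, 0), (1, 0), (-1, 0), (0, -1), (0, 0), (0, 0), (0, 1), (0, 0), (0, 0), (0, 1), (-1, 0), (0, 0), (0, 0), (0, -1), (0, 1), (-1, 0), (0, 0), (-1, 0), (0, 0)],
  [(0, 0), (0, 0), (-1, 0), (0, -1), (0, -1), (-1, 0), (0, 0), (0, 0), (0, 1), (0, 0), (0, -1), (0, 0), (0, 0), (1, 0), (1, 0), (0, 0), (0, 0), (-1, 0), (0, 0), (1, 0), (0, -1), (0, -1), (-1, 0), (1, 0), (-1, 0), (0, 0), (0, 0), (1, 0)],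
  [(0, 0), (0, 0), (0, 0), (-1, 1), (-1, 1), (0, 1), (0, -1), (0, 0), (0, -1), (0, 1), (0, 0), (0, 0), (0, -2), (0, 0), (0, -1), (0, -1), (1, -1), (-1, 0), (0, 0), (-1, 0), (-2, 0), (0, -1), (0, -1), (0, 0), (1, 0), (0, 2), (-1, 0), (-1, 1)],
  [(0, 0), (0, 0), (0, 0), (0, 0), (1, 0), (-1, 0), (0, 1), (1, 0), (0, 0), (0, 0), (0, 0), (0, 0), (-1, 0), (0, 1), (-1, 0), (-1, 0), (1, 0), (-1, 0), (-1, 0), (0, -1), (0, 1), (-1, 0), (1, 0), (1, 0), (0, 0), (0, 0), (0, 0), (0, 0)],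
  [(0, 0), (0, 0), (0, 0), (0, 0), (0, 0), (1, 1), (1, 1), (0, 0), (1, 0), (-1, 0), (1, 0), (2, -1), (0, 0), (0, 0), (-1, -1), (1, -1), (0, -1), (0, -1), (0, -1), (-1, 0), (-1, 0), (0, -1), (0, -1), (0, -1), (2, -1), (0, 1), (1, 0), (0, 1)],
  [(0, 0), (0, 0), (0, 0), (0, 0), (0, 0), (0, 0), (1, 1), (1, -1), (0, -2), (0, 0), (-1, 1), (-1, 1), (-1, 2), (1, 0), (-1, 2), (0, 1), (0, 0), (1, 1), (-1, 1), (-2, 0), (2, 1), (0, 1), (1, 0), (-2, -1), (0, 0), (1, -1), (0, 0), (-1, -1)],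
  [(0, 0), (0, 0), (0, 0), (0, 0), (0, 0), (0, 0), (0, 0), (-2, 0), (0, 2), (0, -2), (1, -1), (1, 1), (0, 0), (0, -2), (2, 0), (2, 0), (-1, 0), (1, 0), (3, 0), (0, 1), (0, -1), (1, 0), (-1, 0), (1, 0), (-1, 1), (0, 0), (1, 1), (0, 0)],
  [(0, 0), (0, 0), (0, 0), (0, 0), (0, 0), (0, 0), (0, 0), (2, 0), (0, -2), (-1, 3), (-1, 3), (0, -2), (0, 0), (0, 2), (-2, 0), (-4, 0), (1, 1), (-1, 1), (-4, 0), (0, -2), (0, 1), (-1, 0), (2, -1), (-2, 1), (1, -2), (-1, 0), (-1, -2), (0, -1)]]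

/-- Information set of the first code. -/
def inf0 : List ℕ := [0, 1, 2, 5, 4, 8, 12, 16, 20]

/-- Rows of the first code. -/
def G0 : List ℕ := [262581449, 111986186, 101345996, 174771296, 90885264, 251662080, 251719680, 252641280, 267386880]

/-- Information set of the second code. -/
def inf1 : List ℕ := [0, 1, 2, 5, 4, 16, 12, 24, 8, 20]

/-- Rows of the second code. -/
def G1 : List ℕ := [10923209, 111986186, 101345996, 174771296, 174771344, 983040, 61440, 251658240, 3840, 15728640]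

/-- Tests for two components. -/
def T8 : List (List (List (List (ℤ × ℤ)))) := [[[],
   [[(0, 0), (0, 0), (0, 0), (0, 0), (0, 0), (0, 0), (0, 0), (-2, 0), (0, 2), (0, -2), (1, -1), (1, 1), (0, 0), (0, -2), (2, 0), (2, 0), (-1, 0), (1, 0), (3, 0), (0, 1), (0, -1), (1, 0), (-1, 0), (1, 0), (-1, 1), (0, 0), (1, 1), (0, 0)]],
   [[(0, 0), (0, 0), (0, 0), (0, 0), (0, 0), (0, 0), (0, 0), (0, 0), (0, 0), (0, 0), (0, 0), (2, -2), (0, -2), (-2, 0), (-2, -2), (2, -2), (0, 0), (0, -2), (0, -2), (0, 0), (-2, 0), (0, -2), (0, 0), (0, 0), (2, 0), (0, 2), (2, 0), (0, 2)]],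
   [[(0, 0), (0, 0), (0, 0), (0, 0), (0, 0), (0, 0), (0, 0), (-2, 0), (0, 2), (0, -2), (1, -1), (1, 1), (0, 0), (0, -2), (2, 0), (2, 0), (-1, 0), (1, 0), (3, 0), (0, 1), (0, -1), (1, 0), (-1, 0), (1, 0), (-1, 1), (0, 0), (1, 1), (0, 0)]],
   [[(0, 0), (0, 0), (0, 0), (0, 0), (1, 0), (-1, 0), (0, 1), (1, 0), (0, 0), (0, 0), (0, 0), (0, 0), (-1, 0), (0, 1), (-1, 0), (-1, 0), (1, 0), (-1, 0), (-1, 0), (0, -1), (0, 1), (-1, 0), (1, 0), (1, 0), (0, 0), (0, 0), (0, 0), (0, 0)], [(0, 0), (0, 0), (0, 0), (0, 0), (0, 0), (0, 0), (0, 0), (-2, 0), (0, 2), (0, -2), (1, -1), (1, 1), (0, 0), (0, -2), (2, 0), (2, 0), (-1, 0), (1, 0), (3, 0), (0, 1), (0, -1), (1, 0), (-1, 0), (1, 0), (-1, 1), (0, 0), (1, 1), (0, 0)]],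
   [[(0, 0), (0, 0), (0, 0), (0, 0), (1, 0), (-1, 0), (0, 1), (1, 0), (0, 0), (0, 0), (0, 0), (0, 0), (-1, 0), (0, 1), (-1, 0), (-1, 0), (1, 0), (-1, 0), (-1, 0), (0, -1), (0, 1), (-1, 0), (1, 0), (1, 0), (0, 0), (0, 0), (0, 0), (0, 0)], [(0, 0), (0, 0), (0, 0), (0, 0), (0, 0), (0, 0), (0, 0), (-2, 0), (0, 2), (0, -2), (1, -1), (1, 1), (0, 0), (0, -2), (2, 0), (2, 0), (-1, 0), (1, 0), (3, 0), (0, 1), (0, -1), (1, 0), (-1, 0), (1, 0), (-1, 1), (0, 0), (1, 1), (0, 0)]],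
   [[(0, 0), (0, 0), (0, 0), (0, 0), (0, 0), (1, 1), (1, 1), (0, 0), (1, 0), (-1, 0), (1, 0), (2, -1), (0, 0), (0, 0), (-1, -1), (1, -1), (0, -1), (0, -1), (0, -1), (-1, 0), (-1, 0), (0, -1), (0, -1), (0, -1), (2, -1), (0, 1), (1, 0), (0, 1)], [(0, 0), (0, 0), (0, 0), (0, 0), (0, 0), (0, 0), (0, 0), (-2, 0), (0, 2), (0, -2), (1, -1), (1, 1), (0, 0), (0, -2), (2, 0), (2, 0), (-1, 0), (1, 0), (3, 0), (0, 1), (0, -1), (1, 0), (-1, 0), (1, 0), (-1, 1), (0, 0), (1, 1), (0, 0)]]],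
  [[[(0, 0), (0, 0), (0, 0), (0, 2), (0, 0), (0, 0), (0, 0), (0, 0), (3, -2), (1, -2), (-5, -4), (-6, 1), (-8, 2), (2, -2), (-2, 4), (-2, 2), (-3, -1), (0, 8), (1, 1), (-4, 0), (3, 7), (-2, 4), (-2, 2), (-1, -7), (-5, 2), (7, 0), (0, 1), (1, -4)]],
   [],
   [[(0, 0), (0, 0), (0, 0), (0, 0), (0, 0), (0, 0), (0, 0), (0, 0), (0, 0), (0, 0), (0, 0), (2, -2), (0, -2), (-2, 0), (-2, -2), (2, -2), (0, 0), (0, -2), (0, -2), (0, 0), (-2, 0), (0, -2), (0, 0), (0, 0), (2, 0), (0, 2), (2, 0), (0, 2)]],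
   [[(0, 0), (0, 0), (0, 0), (0, 0), (0, 0), (0, 0), (0, 0), (0, 0), (0, 0), (-1, 1), (0, 2), (1, -1), (0, 0), (0, 0), (0, 0), (-2, 0), (0, 1), (0, 1), (-1, 0), (0, -1), (0, 0), (0, 0), (1, -1), (-1, 1), (0, -1), (-1, 0), (0, -1), (0, -1)]],
   [[(0, 0), (-1, -1), (-2, -2), (1, -1), (0, 0), (0, 0), (0, 0), (0, 0), (-1, 0), (0, 1), (3, 0), (1, -2), (1, -1), (1, 1), (0, 0), (0, 0), (0, -1), (-1, -2), (-1, 0), (-1, 0), (0, -1), (1, -2), (0, -3), (0, 1), (0, -3), (0, 1), (0, -1), (1, 2)], [(0, 0), (0, 0), (1, 1), (-1, 1), (0, 0), (0, 0), (0, 0), (0, 0), (2, 0), (1, -1), (-2, -2), (-3, -1), (-3, 0), (0, -1), (-2, 1), (-2, 1), (-1, 0), (-1, 4), (0, 1), (-1, -2), (0, 4), (-3, 3), (0, 2), (1, -3), (-3, 1), (2, 0), (0, 0), (1, -3)]],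
   [[(0, 0), (-1, -1), (-2, -2), (1, -1), (0, 0), (0, 0), (0, 0), (0, 0), (-1, 0), (0, 1), (3, 0), (1, -2), (1, -1), (1, 1), (0, 0), (0, 0), (0, -1), (-1, -2), (-1, 0), (-1, 0), (0, -1), (1, -2), (0, -3), (0, 1), (0, -3), (0, 1), (0, -1), (1, 2)], [(0, 0), (0, 0), (0, 0), (0, 0), (0, 0), (0, 0), (0, 0), (0, 0), (0, 0), (0, 0), (0, 0), (0, 0), (0, 0), (0, 0), (0, 2), (0, 2), (1, -1), (1, 1), (1, 1), (-1, -1), (1, 1), (-1, 1), (-1, -1), (-1, -1), (0, 0), (0, 0), (0, 0), (0, 0)]],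
   [[(0, 0), (-1, -1), (-2, -2), (1, -1), (0, 0), (0, 0), (0, 0), (0, 0), (-1, 0), (0, 1), (3, 0), (1, -2), (1, -1), (1, 1), (0, 0), (0, 0), (0, -1), (-1, -2), (-1, 0), (-1, 0), (0, -1), (1, -2), (0, -3), (0, 1), (0, -3), (0, 1), (0, -1), (1, 2)], [(0, 1), (0, 1), (0, 1), (-1, 0), (0, 0), (0, 0), (0, 0), (0, 0), (0, 0), (0, 0), (-1, -1), (-1, 1), (-1, -1), (0, 0), (0, 0), (1, -1), (1, 0), (-1, 0), (1, 0), (0, 1), (-1, 0), (0, -1), (-1, 0), (1, 0), (0, 1), (0, 1), (0, 1), (-1, 0)]]],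
  [[[(0, 0), (0, 0), (0, 0), (0, 2), (0, 2), (1, -1), (-1, -3), (-2, 0), (0, 0), (0, 0), (0, 0), (0, 0), (-2, -2), (0, -2), (1, 1), (-1, -1), (-2, -3), (1, 2), (2, -1), (0, 5), (1, 2), (-3, 0), (-1, 0), (0, 3), (-1, -1), (3, -1), (-1, 3), (1, -1)]],
   [[(0, 0), (0, 0), (0, 0), (0, 0), (0, 0), (0, 0), (0, 0), (-2, 2), (0, 0), (0, 0), (0, 0), (0, 0), (4, 0), (-4, -2), (4, -2), (4, -4), (-3, 3), (-1, -5), (1, -3), (3, -1), (-3, -7), (3, -1), (1, 1), (3, -3), (0, 0), (-2, 4), (6, -2), (-2, 4)]],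
   [],
   [[(0, 0), (0, 0), (0, 0), (0, 0), (0, 0), (0, 0), (0, 0), (0, 0), (0, 0), (0, 0), (0, 0), (0, 0), (0, 0), (0, 0), (0, 0), (2, -2), (0, 0), (0, -2), (0, 0), (2, 0), (1, -1), (1, -3), (-1, 3), (1, 1), (1, -1), (1, 1), (1, 1), (1, 1)]],
   [[(0, 0), (0, 0), (1, 1), (-3, -1), (-3, -1), (-1, 3), (2, 2), (0, 0), (0, 0), (0, 0), (0, 0), (0, 0), (4, 0), (-1, -1), (1, -3), (2, 0), (3, 6), (-2, -1), (0, 3), (-2, -9), (-6, -4), (6, 0), (1, -1), (-1, -5), (0, 3), (-6, 5), (1, -6), (-4, 1)], [(0, 0), (-1, -1), (-1, -1), (-2, 0), (-3, 1), (0, 2), (1, -1), (0, 0), (0, 0), (0, 0), (0, 0), (0, 0), (3, -3), (0, 0), (0, -2), (1, -1), (4, 0), (-2, 0), (1, 1), (-5, -3), (-4, 0), (2, -4), (1, -1), (-3, -1), (1, 1), (0, 4), (-3, -3), (0, 2)]],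
   [[(-1, 0), (-1, 0), (-1, 0), (0, 1), (0, 2), (1, 1), (-1, -1), (0, 0), (0, 0), (0, 0), (0, 0), (0, 0), (-1, -3), (0, 0), (-1, -1), (0, 0), (1, -2), (0, 1), (1, 0), (-3, 2), (-1, 2), (-1, -2), (0, -1), (-1, 2), (1, 0), (2, 1), (-3, 2), (1, 0)], [(0, 0), (-1, -1), (-1, -1), (-2, 0), (-3, 1), (0, 2), (1, -1), (0, 0), (0, 0), (0, 0), (0, 0), (0, 0), (3, -3), (0, 0), (0, -2), (1, -1), (4, 0), (-2, 0), (1, 1), (-5, -3), (-4, 0), (2, -4), (1, -1), (-3, -1), (1, 1), (0, 4), (-3, -3), (0, 2)]],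
   [[(0, 0), (0, 0), (0, 0), (0, 0), (0, 0), (0, 0), (1, 1), (1, 1), (0, 0), (0, 0), (0, 0), (0, 0), (-1, 0), (-1, 0), (-1, -2), (-2, 1), (3, 4), (0, 3), (0, 1), (-4, -3), (-3, 3), (2, -2), (-1, -1), (-4, -2), (-2, 2), (2, 2), (-2, -4), (0, 0)]]],
  [[[(0, 0), (0, 0), (0, 0), (0, 2), (2, 2), (0, 2), (2, 0), (0, -2), (-4, -1), (1, 2), (5, 2), (3, 0), (0, 0), (0, 0), (0, 0), (0, 0), (3, -3), (0, -2), (0, 2), (-3, 3), (-1, 0), (-1, -2), (0, -5), (1, 4), (2, -2), (0, 2), (-1, 1), (-3, 5)]],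
   [[(0, 0), (0, 0), (0, 0), (0, 2), (2, 2), (0, 2), (2, 0), (0, -2), (-4, -1), (1, 2), (5, 2), (3, 0), (0, 0), (0, 0), (0, 0), (0, 0), (3, -3), (0, -2), (0, 2), (-3, 3), (-1, 0), (-1, -2), (0, -5), (1, 4), (2, -2), (0, 2), (-1, 1), (-3, 5)]],
   [[(0, 0), (1, 1), (2, 0), (1, 1), (0, -2), (3, 1), (1, -1), (-2, 0), (2, 2), (-2, 0), (0, 0), (2, -2), (0, 0), (0, 0), (0, 0), (0, 0), (-2, -1), (1, 2), (2, -1), (0, 1), (0, 0), (2, 2), (-2, -2), (0, -2), (2, -1), (-1, 2), (1, 0), (1, 0)]],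
   [],
   [[(0, 0), (1, 1), (2, 0), (1, 1), (0, -2), (3, 1), (1, -1), (-2, 0), (2, 2), (-2, 0), (0, 0), (2, -2), (0, 0), (0, 0), (0, 0), (0, 0), (-2, -1), (1, 2), (2, -1), (0, 1), (0, 0), (2, 2), (-2, -2), (0, -2), (2, -1), (-1, 2), (1, 0), (1, 0)], [(0, -1), (0, 1), (1, 2), (-2, 3), (2, 2), (-2, 4), (3, 1), (1, -3), (-3, -1), (0, 0), (2, 2), (3, 3), (0, 0), (0, 0), (0, 0), (0, 0), (4, -3), (-1, 0), (0, 3), (-4, 1), (-1, 0), (-2, 1), (3, -4), (1, 2), (3, 2), (-2, 1), (-2, 1), (-4, 3)]],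
   [[(0, 0), (1, 1), (2, 0), (1, 1), (0, -2), (3, 1), (1, -1), (-2, 0), (2, 2), (-2, 0), (0, 0), (2, -2), (0, 0), (0, 0), (0, 0), (0, 0), (-2, -1), (1, 2), (2, -1), (0, 1), (0, 0), (2, 2), (-2, -2), (0, -2), (2, -1), (-1, 2), (1, 0), (1, 0)]],
   [[(0, -1), (0, 1), (1, 2), (-2, 3), (2, 2), (-2, 4), (3, 1), (1, -3), (-3, -1), (0, 0), (2, 2), (3, 3), (0, 0), (0, 0), (0, 0), (0, 0), (4, -3), (-1, 0), (0, 3), (-4, 1), (-1, 0), (-2, 1), (3, -4), (1, 2), (3, 2), (-2, 1), (-2, 1), (-4, 3)], [(0, 0), (1, 1), (2, 0), (1, 1), (0, -2), (3, 1), (1, -1), (-2, 0), (2, 2), (-2, 0), (0, 0), (2, -2), (0, 0), (0, 0), (0, 0), (0, 0), (-2, -1), (1, 2), (2, -1), (0, 1), (0, 0), (2, 2), (-2, -2), (0, -2), (2, -1), (-1, 2), (1, 0), (1, 0)]]],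
  [[[(0, 0), (0, 0), (0, 0), (-2, 0), (-5, -1), (2, 2), (1, -5), (-2, 0), (1, -1), (-2, 4), (0, 2), (1, -3), (6, -3), (0, -1), (3, -2), (0, -1), (0, 0), (0, 0), (0, 0), (0, 0), (-3, -5), (3, -1), (-1, -3), (-3, 1), (2, -1), (-4, 3), (-2, -3), (-1, 0)]],
   [[(0, 0), (0, 0), (0, 0), (0, 0), (0, 0), (0, 0), (0, 0), (-2, -2), (-2, 2), (2, 0), (4, 2), (0, -4), (-3, -3), (-1, -1), (-3, 1), (1, -1), (0, 0), (0, 0), (0, 0), (0, 0), (-2, 0), (-2, -2), (0, -2), (0, 4), (-1, -3), (1, 3), (1, -1), (1, 1)]],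
   [[(0, 0), (1, -1), (-1, -1), (-2, -2), (-5, -3), (-1, 1), (3, -3), (-1, -1), (2, -2), (-2, 2), (-2, 0), (0, 0), (4, 1), (3, -2), (4, 1), (2, -1), (0, 0), (0, 0), (0, 0), (0, 0), (0, -5), (3, -2), (-1, 0), (-3, -2), (0, 0), (-1, 1), (0, -2), (-1, -1)]],
   [[(0, -1), (0, 1), (0, 1), (1, 0), (3, 0), (-1, 0), (0, 3), (1, 0), (0, 2), (0, -2), (1, -1), (1, 1), (-2, 1), (0, 1), (-1, 0), (0, 1), (0, 0), (0, 0), (0, 0), (0, 0), (1, 1), (-1, 1), (0, 0), (2, 0), (0, 1), (0, -1), (0, 1), (1, 0)], [(0, 0), (0, 0), (0, 0), (-2, 0), (-5, -1), (2, 2), (1, -5), (-2, 0), (1, -1), (-2, 4), (0, 2), (1, -3), (6, -3), (0, -1), (3, -2), (0, -1), (0, 0), (0, 0), (0, 0), (0, 0), (-3, -5), (3, -1), (-1, -3), (-3, 1), (2, -1), (-4, 3), (-2, -3), (-1, 0)]],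
   [],
   [[(0, 0), (0, 0), (0, 0), (0, 0), (0, 0), (0, 0), (-1, 1), (3, -1), (0, -1), (-1, 0), (-6, 3), (4, 5), (2, -1), (2, 3), (0, 1), (-1, 2), (0, 0), (0, 0), (0, 0), (0, 0), (0, 0), (2, 0), (4, 2), (-4, -2), (2, -2), (-3, -1), (-1, 3), (0, 2)]],
   [[(0, -1), (0, 1), (0, 1), (1, 0), (3, 0), (-1, 0), (0, 3), (1, 0), (0, 2), (0, -2), (1, -1), (1, 1), (-2, 1), (0, 1), (-1, 0), (0, 1), (0, 0), (0, 0), (0, 0), (0, 0), (1, 1), (-1, 1), (0, 0), (2, 0), (0, 1), (0, -1), (0, 1), (1, 0)], [(0, 0), (0, 0), (0, 0), (0, 0), (0, 0), (0, 0), (0, 0), (-2, -2), (-2, 2), (2, 0), (4, 2), (0, -4), (-3, -3), (-1, -1), (-3, 1), (1, -1), (0, 0), (0, 0), (0, 0), (0, 0), (-2, 0), (-2, -2), (0, -2), (0, 4), (-1, -3), (1, 3), (1, -1), (1, 1)]]],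
  [[[(0, 0), (0, 0), (0, 0), (-2, 0), (-2, 0), (-2, 0), (1, -1), (3, 1), (2, -5), (1, 4), (0, -1), (-6, -1), (1, 0), (-1, 2), (-1, 0), (0, 3), (5, 1), (1, -1), (-3, 1), (-3, -1), (0, 0), (0, 0), (0, 0), (0, 0), (-1, 3), (0, 2), (-4, -2), (-5, -1)]],
   [[(0, 0), (0, 0), (0, 0), (0, 0), (0, 0), (0, 0), (0, 0), (-2, -2), (-2, 2), (0, -4), (0, -2), (4, 2), (-2, -2), (2, -2), (0, 0), (2, -2), (-3, -1), (-1, 1), (3, -1), (1, 3), (0, 0), (0, 0), (0, 0), (0, 0), (1, 1), (1, -3), (3, 3), (1, -1)]],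
   [[(0, 1), (1, 2), (2, 1), (0, 1), (2, 0), (2, -2), (2, 0), (0, 0), (0, -1), (-1, 0), (-1, 0), (-1, 2), (0, 0), (-1, 1), (0, 2), (1, -3), (0, 0), (-1, -1), (1, -1), (0, 4), (0, 0), (0, 0), (0, 0), (0, 0), (1, -1), (1, 1), (1, 1), (-1, 1)], [(0, 0), (0, 0), (1, 1), (-1, 1), (-1, 1), (2, 2), (1, 1), (-2, 0), (2, 1), (-1, 0), (1, 2), (1, -2), (0, 2), (-1, -3), (0, 0), (1, 1), (0, 0), (3, 1), (2, 0), (-3, -1), (0, 0), (0, 0), (0, 0), (0, 0), (1, 0), (-1, 2), (1, 0), (-2, -1)]],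
   [[(0, 0), (0, 0), (0, 0), (0, 0), (0, 0), (0, 0), (0, 0), (-2, -2), (-2, 2), (0, -4), (0, -2), (4, 2), (-2, -2), (2, -2), (0, 0), (2, -2), (-3, -1), (-1, 1), (3, -1), (1, 3), (0, 0), (0, 0), (0, 0), (0, 0), (1, 1), (1, -3), (3, 3), (1, -1)]],
   [[(0, 0), (0, 0), (0, 0), (0, 0), (0, 0), (1, -1), (0, 0), (-3, -1), (0, 4), (1, -3), (1, 1), (0, 2), (0, -1), (2, -3), (3, 2), (0, 1), (-2, 0), (0, 4), (4, 2), (-2, 0), (0, 0), (0, 0), (0, 0), (0, 0), (-4, -1), (2, 1), (0, 1), (3, -2)]],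
   [],
   [[(0, 0), (1, 1), (1, 1), (0, 0), (1, -1), (0, 0), (1, 1), (0, 0), (1, 1), (-2, 0), (-1, 1), (2, 0), (-1, 1), (0, 0), (0, 0), (-1, -1), (0, 1), (0, 1), (0, -1), (1, 0), (0, 0), (0, 0), (0, 0), (0, 0), (1, 0), (-1, 0), (1, 0), (0, -1)], [(0, 1), (1, 2), (2, 1), (0, 1), (2, 0), (2, -2), (2, 0), (0, 0), (0, -1), (-1, 0), (-1, 0), (-1, 2), (0, 0), (-1, 1), (0, 2), (1, -3), (0, 0), (-1, -1), (1, -1), (0, 4), (0, 0), (0, 0), (0, 0), (0, 0), (1, -1), (1, 1), (1, 1), (-1, 1)]]],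
  [[[(0, 0), (0, 0), (0, 0), (2, 0), (2, 0), (1, -5), (-5, -7), (-6, 4), (-3, 9), (3, -1), (3, -7), (-1, -5), (2, -6), (-12, -4), (-3, -5), (-3, -3), (-5, 2), (4, 1), (5, -2), (3, 2), (-4, -1), (-2, -1), (-8, 3), (7, 6), (0, 0), (0, 0), (0, 0), (0, 0)]],
   [[(0, 0), (0, 0), (0, 0), (0, 0), (0, 0), (0, 0), (0, 0), (-2, 2), (2, 2), (-2, -2), (0, -2), (0, 2), (0, 2), (-2, -2), (2, 0), (2, -2), (-1, 1), (3, -1), (3, 1), (1, -1), (1, -1), (3, -1), (-3, 3), (1, -1), (0, 0), (0, 0), (0, 0), (0, 0)]],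
   [[(0, 0), (0, 0), (0, 0), (0, 0), (0, 0), (0, 0), (2, 0), (2, -4), (-4, -4), (2, 2), (0, 4), (0, 0), (1, 1), (3, -1), (-1, 1), (1, 1), (1, -1), (-1, 1), (-3, 3), (-1, -1), (2, 0), (0, 0), (2, -2), (-4, 2), (0, 0), (0, 0), (0, 0), (0, 0)]],
   [[(0, 0), (0, 0), (0, 0), (0, 0), (0, 0), (0, 0), (0, 0), (0, 0), (1, -1), (-1, 1), (1, 1), (1, -5), (-2, -2), (0, 4), (-2, 2), (-2, 2), (-1, -1), (-1, -1), (-1, -5), (-3, 7), (0, 4), (-2, 4), (0, -6), (-2, 2), (0, 0), (0, 0), (0, 0), (0, 0)]],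
   [[(0, 0), (0, 0), (0, 0), (2, 0), (2, 0), (1, -5), (-5, -7), (-6, 4), (-3, 9), (3, -1), (3, -7), (-1, -5), (2, -6), (-12, -4), (-3, -5), (-3, -3), (-5, 2), (4, 1), (5, -2), (3, 2), (-4, -1), (-2, -1), (-8, 3), (7, 6), (0, 0), (0, 0), (0, 0), (0, 0)], [(-1, 0), (3, -2), (2, -3), (1, 0), (-1, -3), (-3, -1), (0, -4), (0, 0), (0, -1), (-1, 2), (-4, 1), (0, 1), (1, 1), (1, 1), (3, 1), (-3, -1), (1, 1), (-1, 1), (-1, -1), (5, -1), (1, -1), (2, 0), (1, 3), (0, 0), (0, 0), (0, 0), (0, 0), (0, 0)]],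
   [[(0, 0), (0, 0), (1, -1), (1, 3), (1, 3), (3, 1), (3, -1), (-1, -3), (-5, -4), (-1, 2), (3, 6), (4, 1), (1, 2), (4, -5), (4, -1), (0, -1), (0, -2), (-1, 3), (0, 2), (-1, 1), (2, 0), (2, 0), (2, -6), (-6, 4), (0, 0), (0, 0), (0, 0), (0, 0)]],
   []]]

end Cfsg.Agent.Lib.RuLat
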