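import Cfsg.Agent.Lib.RuLat.Basic

/-!
# The rank-28 lattice has no vectors of stored norm 8

Reduction modulo `1 + i` gives a chain of binary codes; a vector of stored norm 8 is excluded level by
level.
-/

set_option autoImplicit false
set_option maxHeartbeats 1000000

namespace Cfsg.Agent.Lib.RuLat

open Cfsg.Spor

/-- Reduction modulo `1 + i`. -/
def par (z : GaussianInt) : ZMod 2 := ((z.re + z.im : ℤ) : ZMod 2)

theorem par_add (a b : GaussianInt) : par (a + b) = par a + par b := by
  simp only [par, Zsqrtd.re_add, Zsqrtd.im_add]; push_cast; ring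

theorem two_zero : (2 : ZMod 2) = 0 := by decide

theorem par_mul (a b : GaussianInt) : par (a * b) = par a * par b := by
  simp only [par, Zsqrtd.re_mul, Zsqrtd.im_mul]; push_cast
  linear_combination (-(a.im : ZMod 2) * b.im) * two_zero

theorem par_star (z : GaussianInt) : par (star z) = par z := by
  simp only [par, Zsqrtd.re_star, Zsqrtd.im_star]; push_cast
  linear_combination (-(z.im : ZMod 2)) * two_zero

/-- Reduction as an additive map. -/
def parHom : GaussianInt →+ ZMod 2 := AddMonoidHom.mk' par par_add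

theorem par_herm (v t : RuVec) : par (herm v t) = ∑ p, par (v p) * par (t p) := by
  have : par (herm v t) = parHom (herm v t) := rfl
  rw [this, herm, map_sum]
  refine Finset.sum_congr rfl fun p _ => ?_
  show par (v p * star (t p)) = _
  rw [par_mul, par_star]

theorem par_eq_zero {z : GaussianInt} : par z = 0 ↔ (2 : ℤ) ∣ z.re + z.im :=
  ZMod.intCast_zmod_eq_zero_iff_dvd _ 2

/-- The prime above two. -/
def OP : GaussianInt := ⟨1, 1⟩
/-- Its square. -/
def OP2 : GaussianInt := ⟨0, 2⟩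
/-- Its cube. -/
def OP3 : GaussianInt := ⟨-2, 2⟩

theorem exists_div {z : GaussianInt} (h : par z = 0) : ∃ w, z = OP * w := by
  obtain ⟨k, hk⟩ := par_eq_zero.1 h
  refine ⟨⟨k, k - z.re⟩, ?_⟩
  apply Zsqrtd.ext
  · simp only [OP, Zsqrtd.re_mul]; ring
  · simp only [OP, Zsqrtd.im_mul]; linarith

theorem vec_div {v : RuVec} (h : ∀ p, par (v p) = 0) : ∃ w : RuVec, v = OP • w := by
  choose w hw using fun p => exists_div (h p)
  exact ⟨w, funext hw⟩

theorem ruNorm_OP (w : RuVec) : ruNorm (OP • w) = 2 * ruNorm w := by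
  rw [ruNorm_smul]; rfl

theorem norm_nonneg' (z : GaussianInt) : 0 ≤ z.norm := by
  rw [norm_eq]; nlinarith [mul_self_nonneg z.re, mul_self_nonneg z.im]

theorem eq_zero_of_norm {z : GaussianInt} (h : z.norm = 0) : z = 0 := by
  rw [norm_eq] at h
  have h1 : z.re * z.re = 0 := by nlinarith [mul_self_nonneg z.re, mul_self_nonneg z.im]
  have h2 : z.im * z.im = 0 := by nlinarith [mul_self_nonneg z.re, mul_self_nonneg z.im]
  apply Zsqrtd.ext
  · simpa using mul_self_eq_zero.1 h1
  · simpa using mul_self_eq_zero.1 h2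

theorem one_le_norm {z : GaussianInt} (h : par z = 1) : 1 ≤ z.norm := by
  by_contra hc
  have h0 : z.norm = 0 := le_antisymm (by omega) (norm_nonneg' z)
  rw [eq_zero_of_norm h0] at h
  exact absurd h (by decide)

/-- Number of odd coordinates. -/
def wt (x : RuIdx → ZMod 2) : ℕ := (Finset.univ.filter fun p => x p = 1).card

theorem wt_le (v : RuVec) : (wt (fun p => par (v p)) : ℤ) ≤ ruNorm v := by
  rw [wt, Finset.card_filter, ruNorm]
  push_cast
  refine Finset.sum_le_sum fun p _ => ?_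
  split_ifs with h
  · exact one_le_norm h
  · exact norm_nonneg' _

theorem norm_of_wt_eq {v : RuVec} (h : (wt (fun p => par (v p)) : ℤ) = ruNorm v) (p : RuIdx) :
    (v p).norm = if par (v p) = 1 then 1 else 0 := by
  have h1 : ∑ p, ((v p).norm - if par (v p) = 1 then 1 else 0) = 0 := by
    rw [Finset.sum_sub_distrib, ← ruNorm, ← h, wt, Finset.card_filter]
    push_cast
    ring
  have h2 : (v p).norm - (if par (v p) = 1 then (1 : ℤ) else 0) = 0 :=
    (Finset.sum_eq_zero_iff_of_nonneg (s := Finset.univ)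
    (f := fun p => (v p).norm - if par (v p) = 1 then (1 : ℤ) else 0) (fun q _ => by
      show 0 ≤ (v q).norm - if par (v q) = 1 then (1 : ℤ) else 0
      split_ifs with hq
      · have := one_le_norm hq; omega
      · have := norm_nonneg' (v q); omega)).1 h1 p (Finset.mem_univ _)
  omega

/-- The units of the Gaussian integers. -/
def U4 : List GaussianInt := [⟨1, 0⟩, ⟨0, 1⟩, ⟨-1, 0⟩, ⟨0, -1⟩]

theorem mem_U4 {z : GaussianInt} (h : z.norm = 1) : z ∈ U4 := by
  obtain ⟨a, b⟩ := z
  rw [norm_eq] at h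
  simp only at h
  have h1 : -1 ≤ a := by nlinarith [mul_self_nonneg (a + 1), mul_self_nonneg b]
  have h2 : a ≤ 1 := by nlinarith [mul_self_nonneg (a - 1), mul_self_nonneg b]
  have h3 : -1 ≤ b := by nlinarith [mul_self_nonneg (b + 1), mul_self_nonneg a]
  have h4 : b ≤ 1 := by nlinarith [mul_self_nonneg (b - 1), mul_self_nonneg a]
  interval_cases a <;> interval_cases b <;> first | (exfalso; revert h; decide) | simp [U4]

theorem par_of_D4 {κ h : GaussianInt}
    (hk : κ = ⟨-2, -2⟩ ∨ κ = ⟨2, -2⟩ ∨ κ = ⟨2, 2⟩ ∨ κ = ⟨-2, 2⟩) (hd : D4 (κ * h)) : par h = 0 := by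
  rw [par_eq_zero]
  obtain ⟨h1, h2⟩ := hd
  rcases hk with rfl | rfl | rfl | rfl <;>
    simp only [Zsqrtd.re_mul, Zsqrtd.im_mul] at h1 h2 <;> omega

theorem par_test {a b : GaussianInt} {v u t : RuVec} (hv : v = a • u)
    (hk : a * star b = ⟨-2, -2⟩ ∨ a * star b = ⟨2, -2⟩ ∨ a * star b = ⟨2, 2⟩ ∨ a * star b = ⟨-2, 2⟩)
    (h : D4 (herm v (b • t))) : ∑ p, par (u p) * par (t p) = 0 := by
  subst hv
  rw [herm_smul_left, herm_smul_right, ← mul_assoc] at h
  rw [← par_herm]
  exact par_of_D4 hk h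

/-- Validity of a family of tests. -/
def chkT (a : GaussianInt) (T : List (List (ℤ × ℤ))) : Bool :=
  T.all fun t => B.all fun b => decide (D4 (herm (vecOf b) (a • vecOf t)))

theorem test_of {a : GaussianInt} {T : List (List (ℤ × ℤ))} (h : chkT a T = true) {t : List (ℤ × ℤ)}
    (ht : t ∈ T) {v : RuVec} (hv : v ∈ A) : D4 (herm v (a • vecOf t)) :=
  test_all (List.all_eq_true.1 h t ht) v hv

theorem T3_ok : chkT OP3 T3 = true := by decide +kernel
theorem T2_ok : chkT OP2 T2 = true := by decide +kernel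
theorem T1_ok : chkT OP T1 = true := by decide +kernel
theorem T0_ok : chkT 1 T0 = true := by decide +kernel

/-- The position of a coordinate. -/
def idx (p : RuIdx) : ℕ := p.1.val * 4 + p.2.val

/-- The coordinate at a position. -/
def ofIdx (n : ℕ) : RuIdx := (Fin.ofNat 7 (n / 4), Fin.ofNat 4 n)

/-- Entries of the code matrices. -/
def gm (G : List ℕ) (i : ℕ) (q : RuIdx) : ZMod 2 := if (G.getD i 0).testBit (idx q) then 1 else 0

/-- Words of a code. -/
def wd (k : ℕ) (G : List ℕ) (y : Fin k → ZMod 2) (q : RuIdx) : ZMod 2 := ∑ i, y i * gm G i q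

theorem code_lemma {k : ℕ} (F : Fin k → RuIdx) (Gm : Fin k → RuIdx → ZMod 2) (tt : RuIdx → RuVec)
    (key : ∀ q r, par (tt q r) = (if r = q then 1 else 0) + ∑ i, if r = F i then Gm i q else 0)
    (x : RuIdx → ZMod 2) (hx : ∀ q, ∑ r, x r * par (tt q r) = 0) (q : RuIdx) :
    x q = ∑ i, x (F i) * Gm i q := by
  have h := hx q
  simp only [key, mul_add, Finset.sum_add_distrib, Finset.mul_sum] at h
  rw [Finset.sum_comm] at h
  simp only [mul_ite, mul_zero, Finset.sum_ite_eq', Finset.mem_univ, if_true, mul_one] at h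
  exact (CharTwo.add_eq_zero.1 h)

theorem key0 : ∀ q r : RuIdx, par (vecOf (T3.getD (idx q) []) r) = (if r = q then 1 else 0) +
    ∑ i : Fin 9, if r = ofIdx (inf0.getD i 0) then gm G0 i q else 0 := by decide +kernel

theorem key1 : ∀ q r : RuIdx, par (vecOf (T2.getD (idx q) []) r) = (if r = q then 1 else 0) +
    ∑ i : Fin 10, if r = ofIdx (inf1.getD i 0) then gm G1 i q else 0 := by decide +kernel

theorem mem_T3 : ∀ q : RuIdx, T3.getD (idx q) [] ∈ T3 := by decide +kernel
theorem mem_T2 : ∀ q : RuIdx, T2.getD (idx q) [] ∈ T2 := by decide +kernel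

/-- Enumeration of binary functions. -/
def allY : (k : ℕ) → ((Fin k → ZMod 2) → Bool) → Bool
  | 0, P => P Fin.elim0
  | k + 1, P => allY k (fun y => P (Fin.cons 0 y)) && allY k (fun y => P (Fin.cons 1 y))

theorem zmod_two (a : ZMod 2) : a = 0 ∨ a = 1 := by
  revert a; decide

theorem allY_spec : ∀ (k : ℕ) (P : (Fin k → ZMod 2) → Bool), allY k P = true → ∀ y, P y = true
  | 0, P, h, y => by
    have : y = Fin.elim0 := funext fun i => i.elim0
    rw [this]; exact h
  | k + 1, P, h, y => by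
    simp only [allY, Bool.and_eq_true] at h
    have hy := Fin.cons_self_tail y
    rw [← hy]
    rcases zmod_two (y 0) with h0 | h0 <;> rw [h0]
    · exact allY_spec k _ h.1 _
    · exact allY_spec k _ h.2 _

theorem P0_chk : allY 9 (fun y => decide (wt (wd 9 G0 y) ≤ 8 → (∀ p, wd 9 G0 y p = 0) ∨
    ∃ c1 c2 : Fin 7, c1 ≠ c2 ∧ ∀ p : RuIdx, wd 9 G0 y p = if p.1 = c1 ∨ p.1 = c2 then 1 else 0)) = true := by
  decide +kernel

theorem P1_chk : allY 10 (fun y => decide (wt (wd 10 G1 y) ≤ 4 → (∀ p, wd 10 G1 y p = 0) ∨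
    ∃ c : Fin 7, ∀ p : RuIdx, wd 10 G1 y p = if p.1 = c then 1 else 0)) = true := by
  decide +kernel

theorem P0 (y : Fin 9 → ZMod 2) (h : wt (wd 9 G0 y) ≤ 8) : (∀ p, wd 9 G0 y p = 0) ∨
    ∃ c1 c2 : Fin 7, c1 ≠ c2 ∧ ∀ p : RuIdx, wd 9 G0 y p = if p.1 = c1 ∨ p.1 = c2 then 1 else 0 :=
  of_decide_eq_true (allY_spec 9 _ P0_chk y) h

theorem P1 (y : Fin 10 → ZMod 2) (h : wt (wd 10 G1 y) ≤ 4) : (∀ p, wd 10 G1 y p = 0) ∨
    ∃ c : Fin 7, ∀ p : RuIdx, wd 10 G1 y p = if p.1 = c then 1 else 0 :=
  of_decide_eq_true (allY_spec 10 _ P1_chk y) h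

theorem wt_pair : ∀ c1 c2 : Fin 7, c1 ≠ c2 →
    wt (fun p : RuIdx => if p.1 = c1 ∨ p.1 = c2 then 1 else 0) = 8 := by decide +kernel

theorem wt_one : ∀ c : Fin 7, wt (fun p : RuIdx => if p.1 = c then 1 else 0) = 4 := by decide +kernel

/-- Expansion of the form on one component. -/
theorem herm_expand {w τ : RuVec} {c : Fin 7} (h : ∀ a j, a ≠ c → w (a, j) * star (τ (a, j)) = 0) :
    herm w τ = w (c, 0) * star (τ (c, 0)) + w (c, 1) * star (τ (c, 1)) + w (c, 2) * star (τ (c, 2)) +
      w (c, 3) * star (τ (c, 3)) := by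
  simp only [herm]
  rw [Fintype.sum_prod_type, Finset.sum_eq_single c]
  · rw [Fin.sum_univ_four]
  · intro a _ ha
    exact Finset.sum_eq_zero fun j _ => h a j ha
  · simp

/-- The tests for two components. -/
theorem T8_test : ∀ c1 c2 : Fin 7, c1 ≠ c2 →
    (∀ t ∈ (T8.getD c1 []).getD c2 [], (∀ j : Fin 4, vecOf t (c1, j) = 0) ∧
      (B.all fun b => decide (D4 (herm (vecOf b) (vecOf t)))) = true) ∧
    (∀ u0 ∈ U4, ∀ u1 ∈ U4, ∀ u2 ∈ U4, ∀ u3 ∈ U4, ∃ t ∈ (T8.getD c1 []).getD c2 [],
      ¬ D4 (u0 * star (vecOf t (c2, 0)) + u1 * star (vecOf t (c2, 1)) + u2 * star (vecOf t (c2, 2)) +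
        u3 * star (vecOf t (c2, 3)))) := by
  decide +kernel

/-- The tests for one component. -/
theorem T4_test : ∀ c : Fin 7, ∀ u0 ∈ U4, ∀ u1 ∈ U4, ∀ u2 ∈ U4, ∀ u3 ∈ U4, ∃ b ∈ B,
      ¬ D4 (OP * (u0 * star (vecOf b (c, 0)) + u1 * star (vecOf b (c, 1)) + u2 * star (vecOf b (c, 2)) +
        u3 * star (vecOf b (c, 3)))) := by
  decide +kernel

theorem sep1 : ∀ p q : RuIdx, (∃ t ∈ T1, par (vecOf t p) = 1) ∧
    (p ≠ q → ∃ t ∈ T1, par (vecOf t p) + par (vecOf t q) = 1) := by decide +kernel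

theorem sep0 : ∀ p : RuIdx, ∃ t ∈ T0, par (vecOf t p) = 1 := by decide +kernel

theorem sum_filter_par (x : RuIdx → ZMod 2) (f : RuIdx → ZMod 2) :
    ∑ p, x p * f p = ∑ p ∈ Finset.univ.filter (fun p => x p = 1), f p := by
  rw [Finset.sum_filter]
  refine Finset.sum_congr rfl fun p _ => ?_
  rcases zmod_two (x p) with h | h <;> simp [h]

theorem zero_of_wt_le2 {x : RuIdx → ZMod 2} (hw : wt x ≤ 2)
    (ht : ∀ t ∈ T1, ∑ p, x p * par (vecOf t p) = 0) (p : RuIdx) : x p = 0 := by
  by_contra hp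
  have hp1 : x p = 1 := (zmod_two (x p)).resolve_left hp
  set S := Finset.univ.filter (fun p => x p = 1) with hS
  have hpS : p ∈ S := by simp [hS, hp1]
  by_cases hq : ∃ q ∈ S, q ≠ p
  · obtain ⟨q, hqS, hqp⟩ := hq
    have hsub : ({p, q} : Finset RuIdx) ⊆ S := by
      intro a ha
      simp only [Finset.mem_insert, Finset.mem_singleton] at ha
      rcases ha with rfl | rfl <;> assumption
    have hcard : S.card ≤ ({p, q} : Finset RuIdx).card := by
      rw [Finset.card_pair hqp.symm]; exact hw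
    have hSe := Finset.eq_of_subset_of_card_le hsub hcard
    obtain ⟨t, htT, hpar⟩ := (sep1 p q).2 hqp.symm
    have := ht t htT
    rw [sum_filter_par, ← hS, ← hSe, Finset.sum_pair hqp.symm, hpar] at this
    exact absurd this (by decide)
  · have hSe : S = {p} := by
      ext a
      simp only [Finset.mem_singleton]
      constructor
      · intro ha
        by_contra hne
        exact hq ⟨a, ha, hne⟩
      · rintro rfl; exact hpS
    obtain ⟨⟨t, htT, hpar⟩, -⟩ := sep1 p p
    have := ht t htT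
    rw [sum_filter_par, ← hS, hSe, Finset.sum_singleton, hpar] at this
    exact absurd this (by decide)

theorem zero_of_wt_le1 {x : RuIdx → ZMod 2} (hw : wt x ≤ 1)
    (ht : ∀ t ∈ T0, ∑ p, x p * par (vecOf t p) = 0) (p : RuIdx) : x p = 0 := by
  by_contra hp
  have hp1 : x p = 1 := (zmod_two (x p)).resolve_left hp
  set S := Finset.univ.filter (fun p => x p = 1) with hS
  have hpS : p ∈ S := by simp [hS, hp1]
  have hSe : S = {p} := by
    have hc : ({p} : Finset RuIdx).card ≥ S.card := by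
      rw [Finset.card_singleton]; exact hw
    exact (Finset.eq_of_subset_of_card_le (Finset.singleton_subset_iff.2 hpS) hc).symm
  obtain ⟨t, htT, hpar⟩ := sep0 p
  have := ht t htT
  rw [sum_filter_par, ← hS, hSe, Finset.sum_singleton, hpar] at this
  exact absurd this (by decide)

/-- No vector of stored norm 8. -/
theorem no_norm8 {v : RuVec} (hv : v ∈ A) : ruNorm v ≠ 8 := by
  intro h8
  -- first level
  have c0 : ∀ q, par (v q) = ∑ i : Fin 9, par (v (ofIdx (inf0.getD i 0))) * gm G0 i q :=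
    code_lemma (fun i => ofIdx (inf0.getD i 0)) (fun i => gm G0 i) (fun q => vecOf (T3.getD (idx q) []))
      key0 (fun p => par (v p)) (fun q =>
        par_test (a := 1) (b := OP3) (v := v) (u := v) (one_smul _ _).symm (by decide +kernel)
          (test_of T3_ok (mem_T3 q) hv))
  have e0 : (fun p => par (v p)) = wd 9 G0 (fun i => par (v (ofIdx (inf0.getD i 0)))) := funext c0
  have w0 : wt (fun p => par (v p)) ≤ 8 := by
    have := wt_le v
    rw [h8] at this
    exact_mod_cast this
  have p0 := P0 (fun i => par (v (ofIdx (inf0.getD i 0)))) (by rw [← e0]; exact w0)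
  rw [← e0] at p0
  rcases p0 with hz | ⟨c1, c2, hne, hx⟩
  · -- divisible
    obtain ⟨w1, rfl⟩ := vec_div hz
    have n1 : ruNorm w1 = 4 := by rw [ruNorm_OP] at h8; omega
    have c1 : ∀ q, par (w1 q) = ∑ i : Fin 10, par (w1 (ofIdx (inf1.getD i 0))) * gm G1 i q :=
      code_lemma (fun i => ofIdx (inf1.getD i 0)) (fun i => gm G1 i) (fun q => vecOf (T2.getD (idx q) []))
        key1 (fun p => par (w1 p)) (fun q =>
          par_test (a := OP) (b := OP2) rfl (by decide +kernel) (test_of T2_ok (mem_T2 q) hv))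
    have e1 : (fun p => par (w1 p)) = wd 10 G1 (fun i => par (w1 (ofIdx (inf1.getD i 0)))) := funext c1
    have w1' : wt (fun p => par (w1 p)) ≤ 4 := by
      have := wt_le w1
      rw [n1] at this
      exact_mod_cast this
    have p1 := P1 (fun i => par (w1 (ofIdx (inf1.getD i 0)))) (by rw [← e1]; exact w1')
    rw [← e1] at p1
    rcases p1 with hz1 | ⟨c, hx⟩
    · obtain ⟨w2, rfl⟩ := vec_div hz1
      have n2 : ruNorm w2 = 2 := by rw [ruNorm_OP] at n1; omega
      have hv2 : OP • OP • w2 = OP2 • w2 := by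
        rw [smul_smul]; rfl
      have w2' : wt (fun p => par (w2 p)) ≤ 2 := by
        have := wt_le w2
        rw [n2] at this
        exact_mod_cast this
      have z2 := zero_of_wt_le2 w2' (fun t ht =>
        par_test (a := OP2) (b := OP) hv2 (by decide +kernel) (test_of T1_ok ht hv))
      obtain ⟨w3, rfl⟩ := vec_div z2
      have n3 : ruNorm w3 = 1 := by rw [ruNorm_OP] at n2; omega
      have hv3 : OP • OP • OP • w3 = OP3 • w3 := by
        rw [smul_smul, smul_smul]; rfl
      have w3' : wt (fun p => par (w3 p)) ≤ 1 := by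
        have := wt_le w3
        rw [n3] at this
        exact_mod_cast this
      have z3 := zero_of_wt_le1 w3' (fun t ht =>
        par_test (a := OP3) (b := 1) hv3 (by decide +kernel) (test_of T0_ok ht hv))
      obtain ⟨w4, rfl⟩ := vec_div z3
      rw [ruNorm_OP] at n3
      omega
    · -- one component
      replace hx : ∀ p : RuIdx, par (w1 p) = if p.1 = c then 1 else 0 := hx
      have hwt : wt (fun p => par (w1 p)) = 4 := by
        have : (fun p => par (w1 p)) = fun p : RuIdx => if p.1 = c then 1 else 0 := funext hx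
        rw [this]; exact wt_one c
      have hn := norm_of_wt_eq (v := w1) (by rw [hwt, n1]; rfl)
      have hon : ∀ j, (w1 (c, j)).norm = 1 := by
        intro j
        rw [hn, hx]; simp
      have hoff : ∀ a j, a ≠ c → w1 (a, j) = 0 := by
        intro a j ha
        apply eq_zero_of_norm
        rw [hn, hx]; simp [ha]
      obtain ⟨b, hb, hnd⟩ := T4_test c _ (mem_U4 (hon 0)) _ (mem_U4 (hon 1)) _ (mem_U4 (hon 2)) _
        (mem_U4 (hon 3))
      apply hnd
      have := gram b hb _ hv
      rw [herm_smul_left, herm_expand (c := c) (fun a j ha => by rw [hoff a j ha, zero_mul])] at this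
      exact this
  · -- two components
    replace hx : ∀ p : RuIdx, par (v p) = if p.1 = c1 ∨ p.1 = c2 then 1 else 0 := hx
    have hwt : wt (fun p => par (v p)) = 8 := by
      have : (fun p => par (v p)) = fun p : RuIdx => if p.1 = c1 ∨ p.1 = c2 then 1 else 0 := funext hx
      rw [this]; exact wt_pair c1 c2 hne
    have hn := norm_of_wt_eq (v := v) (by rw [hwt, h8]; rfl)
    have hon : ∀ j, (v (c2, j)).norm = 1 := by
      intro j
      rw [hn, hx]; simp
    have hoff : ∀ a j, a ≠ c1 → a ≠ c2 → v (a, j) = 0 := by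
      intro a j ha1 ha2
      apply eq_zero_of_norm
      rw [hn, hx]; simp [ha1, ha2]
    obtain ⟨h1, h2⟩ := T8_test c1 c2 hne
    obtain ⟨t, ht, hnd⟩ := h2 _ (mem_U4 (hon 0)) _ (mem_U4 (hon 1)) _ (mem_U4 (hon 2)) _ (mem_U4 (hon 3))
    obtain ⟨ht0, htv⟩ := h1 t ht
    apply hnd
    have := test_all htv v hv
    rw [herm_expand (c := c2) (fun a j ha => by
      by_cases ha1 : a = c1
      · subst ha1
        rw [ht0 j]; simp
      · rw [hoff a j ha1 ha, zero_mul])] at this
    exact this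

theorem table_head_mem : ruTable.head! ∈ ruLattice := by
  rw [ruLattice, AddSubgroup.mem_sInf]
  intro L hL
  exact hL.1 _ (by simp [ruTable])

theorem table_head_norm : ruNorm ruTable.head! = 16 := by decide +kernel

/-- The whole statement. -/
theorem S1628_aux : (∀ x ∈ ruLattice, (8 : ℤ) ∣ ruNorm x) ∧ (∀ x ∈ ruLattice, ruNorm x ≠ 8) ∧
    (∀ x ∈ ruLattice, x ≠ 0 → 16 ≤ ruNorm x) ∧ ∃ x ∈ ruLattice, ruNorm x = 16 := by
  refine ⟨fun x hx => norm8 (lattice_le hx), fun x hx => no_norm8 (lattice_le hx), fun x hx h0 => ?_,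
    _, table_head_mem, table_head_norm⟩
  have h8 := norm8 (lattice_le hx)
  have hne := no_norm8 (lattice_le hx)
  have hpos : ruNorm x ≠ 0 := by
    intro h
    apply h0
    have := (Finset.sum_eq_zero_iff_of_nonneg (s := Finset.univ) (f := fun p => (x p).norm)
      (fun q _ => norm_nonneg' _)).1 h
    funext p
    exact eq_zero_of_norm (this p (Finset.mem_univ _))
  have hnn : 0 ≤ ruNorm x := Finset.sum_nonneg fun q _ => norm_nonneg' _
  omega

end Cfsg.Agent.Lib.RuLat
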